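import Mathlib.LinearAlgebra.Matrix.ProjectiveSpecialLinearGroup
import Mathlib.LinearAlgebra.Dimension.Finrank
import Mathlib.LinearAlgebra.FiniteDimensional.Basic
import Mathlib.LinearAlgebra.Matrix.NonsingularInverse
import Mathlib.FieldTheory.Finite.Basic
import Mathlib.Tactic.LinearCombination
import Cfsg.Agent.Lib.PSL2Sub.Klein
import Cfsg.Agent.Lib.SEmb.ProjLineRel

/-!
# The involutions of `PSL₂` and of `PSL₃(4)` form one class
-/

set_option autoImplicit false

namespace CfsgLib.CITApp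

open Matrix

/-- All involutions of `G` are conjugate. -/
def OneClass (G : Type*) [Group G] : Prop :=
  ∀ x y : G, orderOf x = 2 → orderOf y = 2 → IsConj x y

theorem OneClass.of_equiv {G H : Type*} [Group G] [Group H] (e : G ≃* H) (h : OneClass H) :
    OneClass G := by
  intro x y hx hy
  obtain ⟨c, hc⟩ := isConj_iff.mp (h (e x) (e y) (by rw [e.orderOf_eq, hx]) (by rw [e.orderOf_eq, hy]))
  exact isConj_iff.mpr ⟨e.symm c, e.injective (by simp [hc])⟩

theorem oneClass_of_target {G : Type*} [Group G] (s : G)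
    (h : ∀ x : G, orderOf x = 2 → ∃ c, c * x * c⁻¹ = s) : OneClass G := by
  intro x y hx hy
  exact (isConj_iff.mpr (h x hx)).trans (isConj_iff.mpr (h y hy)).symm

variable {F : Type*} [Field F] [Fintype F]

theorem two_eq_zero_iff_ringChar : (2 : F) = 0 ↔ ∀ x : F, x + x = 0 := by
  constructor
  · intro h x; rw [← two_mul, h, zero_mul]
  · intro h; rw [← one_add_one_eq_two]; exact h 1

theorem exists_sq (h2 : (2 : F) = 0) (b : F) : ∃ l, l * l = b := by
  haveI : CharP F 2 := CharTwo.of_one_ne_zero_of_two_eq_zero one_ne_zero h2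
  obtain ⟨l, hl⟩ := FiniteField.isSquare_of_char_two (F := F) ((ringChar.eq_iff).mpr inferInstance) b
  exact ⟨l, hl.symm⟩

/-- The upper unipotent element with entry `1`. -/
def uniOne : SpecialLinearGroup (Fin 2) F := ⟨!![1, 1; 0, 1], by simp [Matrix.det_fin_two]⟩

theorem sl_two_exists_conj (h2 : (2 : F) = 0) {g : SpecialLinearGroup (Fin 2) F}
    (hg : g * g = 1) (hg1 : g ≠ 1) :
    ∃ P : SpecialLinearGroup (Fin 2) F,
      g * P = P * uniOne := by
  set M : Matrix (Fin 2) (Fin 2) F := (g : Matrix (Fin 2) (Fin 2) F) with hM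
  have hdd : M 0 0 * M 1 1 - M 0 1 * M 1 0 = 1 := by
    rw [← Matrix.det_fin_two]; exact g.2
  have hsq : M * M = 1 := congrArg Subtype.val hg
  have e00 : M 0 0 * M 0 0 + M 0 1 * M 1 0 = 1 := by
    simpa [Matrix.mul_apply, Fin.sum_univ_two] using congrFun (congrFun hsq 0) 0
  have e01 : M 0 0 * M 0 1 + M 0 1 * M 1 1 = 0 := by
    simpa [Matrix.mul_apply, Fin.sum_univ_two] using congrFun (congrFun hsq 0) 1
  have e10 : M 1 0 * M 0 0 + M 1 1 * M 1 0 = 0 := by
    simpa [Matrix.mul_apply, Fin.sum_univ_two] using congrFun (congrFun hsq 1) 0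
  have e11 : M 1 0 * M 0 1 + M 1 1 * M 1 1 = 1 := by
    simpa [Matrix.mul_apply, Fin.sum_univ_two] using congrFun (congrFun hsq 1) 1
  have htr : M 0 0 = M 1 1 := by
    have h : (M 0 0 - M 1 1) ^ 2 = 0 := by
      linear_combination e00 + e11 - 2 * hdd - (2 * (M 0 1 * M 1 0)) * h2
    exact sub_eq_zero.mp (pow_eq_zero_iff two_ne_zero |>.mp h)
  by_cases hc : M 1 0 = 0
  · have ha : M 0 0 = 1 := by
      have h : (M 0 0 - 1) ^ 2 = 0 := by
        linear_combination e00 - (M 0 1) * hc + (1 - M 0 0) * h2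
      exact sub_eq_zero.mp (pow_eq_zero_iff two_ne_zero |>.mp h)
    obtain ⟨l, hl⟩ := exists_sq h2 (M 0 1)
    have hb : M 0 1 ≠ 0 := fun hb => hg1 (Subtype.ext (by
      ext i j; fin_cases i <;> fin_cases j <;> simp [← hM, hb, hc, ha, ← htr]))
    have hl0 : l ≠ 0 := fun h => hb (by rw [← hl, h, zero_mul])
    refine ⟨⟨!![l, 0; 0, l⁻¹], by simp [Matrix.det_fin_two, hl0]⟩, Subtype.ext ?_⟩
    show M * !![l, 0; 0, l⁻¹] = !![l, 0; 0, l⁻¹] * !![1, 1; 0, 1]
    ext i j; fin_cases i <;> fin_cases j <;>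
      simp [Matrix.mul_apply, Fin.sum_univ_two, hc, ha, ← htr]
    rw [← hl, mul_assoc, mul_inv_cancel₀ hl0, mul_one]
  · obtain ⟨l, hl⟩ := exists_sq h2 (M 1 0)⁻¹
    have hl1 : l * l * M 1 0 = 1 := by rw [hl, inv_mul_cancel₀ hc]
    refine ⟨⟨!![l * (M 0 0 + 1), l; l * M 1 0, 0], ?_⟩, Subtype.ext ?_⟩
    · rw [Matrix.det_fin_two_of]
      linear_combination hl1 - (l * l * M 1 0) * h2
    show M * !![l * (M 0 0 + 1), l; l * M 1 0, 0] =
      !![l * (M 0 0 + 1), l; l * M 1 0, 0] * !![1, 1; 0, 1]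
    ext i j; fin_cases i <;> fin_cases j <;> simp [Matrix.mul_apply, Fin.sum_univ_two, ← htr]
    all_goals first
      | ring1
      | linear_combination l * e00
      | linear_combination (-l) * h2
      | linear_combination (l * M 1 0 * M 0 0) * h2

theorem oneClass_psl_two : OneClass (ProjectiveSpecialLinearGroup (Fin 2) F) := by
  by_cases h2 : (2 : F) = 0
  swap
  · exact fun x y hx hy => CfsgLib.PSL2Sub.isConj_involutions h2 x y hx hy
  refine oneClass_of_target (QuotientGroup.mk (uniOne (F := F))) fun x hx => ?_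
  obtain ⟨g, rfl⟩ := QuotientGroup.mk_surjective x
  have hz := CfsgLib.SEmb.ProjLine.center_eq_bot (F := F) (two_eq_zero_iff_ringChar.mp h2)
  have hg : g * g = 1 := by
    have h := congrArg (fun n => (QuotientGroup.mk g : ProjectiveSpecialLinearGroup (Fin 2) F) ^ n) hx
    simp only [pow_orderOf_eq_one, sq, ← QuotientGroup.mk_mul] at h
    have h' := (QuotientGroup.eq_one_iff _).mp h.symm
    rwa [hz, Subgroup.mem_bot] at h'
  have hg1 : g ≠ 1 := by
    rintro rfl
    rw [QuotientGroup.mk_one, orderOf_one] at hx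
    omega
  obtain ⟨P, hP⟩ := sl_two_exists_conj h2 hg hg1
  refine ⟨QuotientGroup.mk P⁻¹, ?_⟩
  rw [← QuotientGroup.mk_inv, ← QuotientGroup.mk_mul, ← QuotientGroup.mk_mul, inv_inv, mul_assoc,
    hP, inv_mul_cancel_left]

theorem sl_three_exists_conj (h2 : (2 : F) = 0) {g : SpecialLinearGroup (Fin 3) F}
    (hg : g * g = 1) (hg1 : g ≠ 1) :
    ∃ P : SpecialLinearGroup (Fin 3) F,
      g * P = P * SpecialLinearGroup.transvection (show (0 : Fin 3) ≠ 1 by decide) (1 : F) := by
  set M : Matrix (Fin 3) (Fin 3) F := (g : Matrix (Fin 3) (Fin 3) F) with hM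
  set N := M - 1 with hN
  have hsq : M * M = 1 := congrArg Subtype.val hg
  have hneg : ∀ A : Matrix (Fin 3) (Fin 3) F, A + A = 0 := fun A => by
    ext i j; simp only [Matrix.add_apply, Matrix.zero_apply]
    exact two_eq_zero_iff_ringChar.mp h2 _
  have hNN : N * N = 0 := by
    have : N * N = (1 + 1) - (M + M) := by rw [hN, sub_mul, mul_sub, mul_sub, hsq]; noncomm_ring
    rw [this, hneg, hneg, sub_zero]
  have hN0 : N ≠ 0 := fun h => hg1 (Subtype.ext (sub_eq_zero.mp h))
  set L := N.mulVecLin with hL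
  obtain ⟨v, hv⟩ : ∃ v, L v ≠ 0 := by
    by_contra hall
    push Not at hall
    exact hN0 (Matrix.toLin'.injective (LinearMap.ext fun v => by
      rw [map_zero, LinearMap.zero_apply, Matrix.toLin'_apply]; exact hall v))
  set w := L v with hw
  have hLL : ∀ a, L (L a) = 0 := fun a => by
    rw [hL, Matrix.mulVecLin_apply, Matrix.mulVecLin_apply, Matrix.mulVec_mulVec, hNN, Matrix.zero_mulVec]
  have hrange : Module.finrank F (LinearMap.range L) ≤ 1 := by
    have h1 := LinearMap.finrank_range_add_finrank_ker L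
    have h2' : Module.finrank F (LinearMap.range L) ≤ Module.finrank F (LinearMap.ker L) :=
      Submodule.finrank_mono (by rintro _ ⟨a, rfl⟩; exact hLL a)
    rw [Module.finrank_fin_fun] at h1
    omega
  have hmul : ∀ a, ∃ c : F, L a = c • w := by
    intro a
    have hle : Submodule.span F {w} = LinearMap.range L := Submodule.eq_of_le_of_finrank_le
      (by rw [Submodule.span_singleton_le_iff_mem]; exact ⟨v, rfl⟩)
      (by rw [finrank_span_singleton hv]; exact hrange)
    have hm : L a ∈ Submodule.span F {w} := hle ▸ ⟨a, rfl⟩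
    obtain ⟨c, hc⟩ := Submodule.mem_span_singleton.mp hm
    exact ⟨c, hc.symm⟩
  obtain ⟨u0, hu0⟩ : ∃ u0, u0 ∉ Submodule.span F (Set.range ![w, v]) := by
    by_contra hall
    push Not at hall
    have h1 : (Submodule.span F (Set.range ![w, v])) = ⊤ := Submodule.eq_top_iff'.mpr hall
    have h3 := finrank_range_le_card (R := F) (b := ![w, v])
    rw [Set.finrank, h1, finrank_top, Module.finrank_fin_fun, Fintype.card_fin] at h3
    omega
  obtain ⟨α, hα⟩ := hmul u0
  set u := u0 - α • v with hu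
  have hLu : L u = 0 := by rw [hu, map_sub, map_smul, hα, ← hw, sub_self]
  have hli : LinearIndependent F ![w, v, u] := by
    rw [Fintype.linearIndependent_iff]
    intro c hc
    simp only [Fin.sum_univ_three, Matrix.cons_val_zero, Matrix.cons_val_one, Matrix.cons_val,
      Matrix.head_cons] at hc
    have h1 := congrArg L hc
    simp only [map_add, map_smul, map_zero, hLu, smul_zero, add_zero] at h1
    rw [show L w = 0 from hLL v, smul_zero, zero_add, ← hw] at h1
    have hc1 : c 1 = 0 := (smul_eq_zero.mp h1).resolve_right hv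
    rw [hc1, zero_smul, add_zero] at hc
    have hc2 : c 2 = 0 := by
      by_contra h
      refine hu0 ?_
      have e : u0 = (-(c 2)⁻¹ * c 0) • w + α • v := by
        have : u = (-(c 2)⁻¹ * c 0) • w := by
          rw [mul_smul, neg_smul, ← smul_neg]
          rw [eq_inv_smul_iff₀ h]
          exact eq_neg_of_add_eq_zero_right hc
        rw [← this, hu, sub_add_cancel]
      rw [e]
      exact add_mem (Submodule.smul_mem _ _ (Submodule.subset_span ⟨0, rfl⟩))
        (Submodule.smul_mem _ _ (Submodule.subset_span ⟨1, rfl⟩))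
    rw [hc2, zero_smul, add_zero] at hc
    have hc0 : c 0 = 0 := (smul_eq_zero.mp hc).resolve_right hv
    intro i; fin_cases i <;> assumption
  set P0 : Matrix (Fin 3) (Fin 3) F := Matrix.of fun i j => ![w, v, u] j i with hP0
  have hd : P0.det ≠ 0 := by
    have h : LinearIndependent F P0.col := hli
    exact ((Matrix.isUnit_iff_isUnit_det _).mp (Matrix.linearIndependent_cols_iff_isUnit.mp h)).ne_zero
  set d := P0.det with hdd
  set P1 : Matrix (Fin 3) (Fin 3) F := P0 * Matrix.diagonal ![1, 1, d⁻¹] with hP1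
  have hP1det : P1.det = 1 := by
    rw [hP1, Matrix.det_mul, Matrix.det_diagonal, Fin.prod_univ_three]
    simp [← hdd, hd]
  refine ⟨⟨P1, hP1det⟩, Subtype.ext ?_⟩
  show M * P1 = P1 * Matrix.transvection 0 1 (1 : F)
  have hMN : M = N + 1 := by rw [hN, sub_add_cancel]
  have hcol : ∀ a, M *ᵥ a = L a + a := fun a => by
    rw [hMN, Matrix.add_mulVec, Matrix.one_mulVec]; rfl
  have k0 : M *ᵥ w = w := by rw [hcol, show L w = 0 from hLL v, zero_add]
  have k1 : M *ᵥ v = w + v := by rw [hcol, hw]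
  have k2 : M *ᵥ u = u := by rw [hcol, hLu, zero_add]
  have hMP : ∀ i j, (M * P0) i j = (M *ᵥ ![w, v, u] j) i := fun i j => rfl
  ext i j
  rw [hP1, ← Matrix.mul_assoc, Matrix.mul_diagonal, hMP]
  fin_cases j
  · simp [k0, hP0, Matrix.transvection, Matrix.mul_apply, Fin.sum_univ_three, Matrix.single]
  · simp [k1, hP0, Matrix.transvection, Matrix.mul_apply, Fin.sum_univ_three, Matrix.single]
  · simp [k2, hP0, Matrix.transvection, Matrix.mul_apply, Fin.sum_univ_three, Matrix.single]

theorem oneClass_psl_three (h2 : (2 : F) = 0) :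
    OneClass (ProjectiveSpecialLinearGroup (Fin 3) F) := by
  refine oneClass_of_target (QuotientGroup.mk
    (SpecialLinearGroup.transvection (show (0 : Fin 3) ≠ 1 by decide) (1 : F))) fun x hx => ?_
  obtain ⟨g0, rfl⟩ := QuotientGroup.mk_surjective x
  have hxx : (QuotientGroup.mk g0 : ProjectiveSpecialLinearGroup (Fin 3) F) ^ 2 = 1 := by
    rw [← hx, pow_orderOf_eq_one]
  have hz : g0 * g0 ∈ Subgroup.center (SpecialLinearGroup (Fin 3) F) := by
    rw [← QuotientGroup.eq_one_iff, ← hxx, sq, QuotientGroup.mk_mul]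
  have hz3 : ∀ z ∈ Subgroup.center (SpecialLinearGroup (Fin 3) F), z ^ 3 = 1 := by
    intro z hzc
    obtain ⟨r, hr, hrz⟩ := Matrix.SpecialLinearGroup.mem_center_iff.mp hzc
    refine Subtype.ext ?_
    show ((z ^ 3 : SpecialLinearGroup (Fin 3) F) : Matrix (Fin 3) (Fin 3) F) =
      ((1 : SpecialLinearGroup (Fin 3) F) : Matrix (Fin 3) (Fin 3) F)
    rw [Matrix.SpecialLinearGroup.coe_pow, ← hrz, ← map_pow, Matrix.SpecialLinearGroup.coe_one]
    rw [Fintype.card_fin] at hr
    rw [hr, map_one]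
  set g := g0 ^ 3 with hg
  have hgg : g * g = 1 := by rw [hg, ← (Commute.refl g0).mul_pow, hz3 _ hz]
  have hmk : (QuotientGroup.mk g : ProjectiveSpecialLinearGroup (Fin 3) F) = QuotientGroup.mk g0 := by
    rw [hg, QuotientGroup.mk_pow, pow_succ, hxx, one_mul]
  have hg1 : g ≠ 1 := by
    intro h
    rw [h, QuotientGroup.mk_one] at hmk
    rw [← hmk, orderOf_one] at hx
    omega
  obtain ⟨P, hP⟩ := sl_three_exists_conj h2 hgg hg1
  refine ⟨QuotientGroup.mk P⁻¹, ?_⟩
  rw [← hmk, ← QuotientGroup.mk_inv, ← QuotientGroup.mk_mul, ← QuotientGroup.mk_mul, inv_inv, mul_assoc,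
    hP, inv_mul_cancel_left]

end CfsgLib.CITApp
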