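import Mathlib
import Cfsg.Agent.Lib.Linear.Card
import Cfsg.Agent.Lib.Linear.LineModel
import Cfsg.Agent.Lib.SL2Trace.Products
import Cfsg.Agent.Lib.Zsigmondy.Basic
import Cfsg.Agent.Lib.CITApp.Classes

/-!
# Orders of elements and primes of `PSL(2, q)`; primes dividing `2^n - 1`
-/

set_option autoImplicit false

namespace CfsgLib.CITApp

open Matrix

theorem dvd_two_pow_sub_one_iff {r : ℕ} (i : ℕ) :
    r ∣ 2 ^ i - 1 ↔ orderOf (2 : ZMod r) ∣ i := by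
  rw [orderOf_dvd_iff_pow_eq_one]
  exact_mod_cast (CfsgLib.Zsigmondy.natCast_eq_one_iff_dvd (a := 2) two_pos r i)

/-- Bang's theorem for `2^n - 1`. -/
theorem exists_primitive_two {n : ℕ} (hn : 2 ≤ n) (h6 : n ≠ 6) :
    ∃ r : ℕ, r.Prime ∧ r ≠ 2 ∧ n + 1 ≤ r ∧ r ∣ 2 ^ n - 1 ∧ ∀ i, r ∣ 2 ^ i - 1 → n ∣ i := by
  obtain ⟨r, hr, hd, hmin⟩ := CfsgLib.Zsigmondy.exists_primitive_prime_divisor (a := 2)
    one_lt_two (by omega : 1 < n) (fun h => h6 h.2) (by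
      rintro ⟨-, k, hk⟩
      rcases k with _ | k
      · simp at hk
      · rw [pow_succ] at hk; omega)
  haveI := Fact.mk hr
  obtain ⟨ho, hdvd⟩ := CfsgLib.Zsigmondy.dvd_sub_one_of_primitive two_pos (by omega) hd hmin
  have h1 := Nat.le_of_dvd (by have := hr.two_le; omega) hdvd
  refine ⟨r, hr, ?_, by omega, hd, fun i hi => ?_⟩
  · omega
  · have := (dvd_two_pow_sub_one_iff i).mp hi
    push_cast at ho
    rwa [ho] at this

/-- A number dividing both `2^a - 1` and `2^b - 1`. -/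
theorem dvd_gcd_two_pow {r a b : ℕ} (ha : r ∣ 2 ^ a - 1) (hb : r ∣ 2 ^ b - 1) :
    r ∣ 2 ^ (Nat.gcd a b) - 1 :=
  (dvd_two_pow_sub_one_iff _).mpr
    (Nat.dvd_gcd ((dvd_two_pow_sub_one_iff a).mp ha) ((dvd_two_pow_sub_one_iff b).mp hb))

variable {F : Type*} [Field F] [Fintype F]

theorem card_psl_two_mul :
    Nat.gcd 2 (Fintype.card F - 1) * Nat.card (ProjectiveSpecialLinearGroup (Fin 2) F) =
      Fintype.card F * (Fintype.card F ^ 2 - 1) := by
  have h := CfsgLib.Linear.card_PSL_mul (n := Fin 2) (F := F)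
  rw [Fintype.card_fin, CfsgLib.Linear.card_SL_two] at h
  exact h

theorem gcd_two_sub_one {m : ℕ} (hm : m ≠ 0) : Nat.gcd 2 (2 ^ m - 1) = 1 :=
  (Nat.coprime_two_left.mpr
    (Nat.Even.sub_odd Nat.one_le_two_pow (Nat.even_pow.mpr ⟨even_two, hm⟩) odd_one))

theorem card_psl_two_even {m : ℕ} (hm : m ≠ 0) (hF : Fintype.card F = 2 ^ m) :
    Nat.card (ProjectiveSpecialLinearGroup (Fin 2) F) = 2 ^ m * (2 ^ (2 * m) - 1) := by
  have h := card_psl_two_mul (F := F)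
  rw [hF, gcd_two_sub_one hm, one_mul, ← pow_mul, mul_comm m 2] at h
  exact h

/-- Odd primes of `PSL(2, q)`. -/
theorem dvd_card_psl_two_iff {r : ℕ} (hr : r.Prime) (hr2 : r ≠ 2) :
    r ∣ Nat.card (ProjectiveSpecialLinearGroup (Fin 2) F) ↔
      r ∣ Fintype.card F * (Fintype.card F ^ 2 - 1) := by
  rw [← card_psl_two_mul]
  refine ⟨fun h => h.mul_left _, fun h => (Nat.Coprime.dvd_of_dvd_mul_left ?_ h)⟩
  exact Nat.Coprime.coprime_dvd_right (Nat.gcd_dvd_left _ _)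
    (hr.coprime_iff_not_dvd.mpr fun h2 => hr2 ((Nat.prime_dvd_prime_iff_eq hr Nat.prime_two).mp h2))

theorem dvd_of_dvd_sq_sub_one {r q : ℕ} (hr : r.Prime) (h : r ∣ q * (q ^ 2 - 1)) :
    r ∣ q ∨ r ∣ q - 1 ∨ r ∣ q + 1 := by
  rcases hr.dvd_mul.mp h with h | h
  · exact Or.inl h
  · rw [show q ^ 2 - 1 = (q + 1) * (q - 1) by simpa using Nat.sq_sub_sq q 1] at h
    exact Or.inr (hr.dvd_mul.mp h).symm

theorem orderOf_psl_two_even {m : ℕ} (hm : m ≠ 0) (hF : Fintype.card F = 2 ^ m)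
    (g : ProjectiveSpecialLinearGroup (Fin 2) F) :
    orderOf g ∣ 2 ∨ orderOf g ∣ 2 ^ m - 1 ∨ orderOf g ∣ 2 ^ m + 1 := by
  haveI : Fact (Nat.Prime 2) := ⟨Nat.prime_two⟩
  haveI : CharP F 2 := (CharP.charP_iff_prime_eq_zero Nat.prime_two).mpr (by
    have h0 := FiniteField.cast_card_eq_zero F
    rw [hF, Nat.cast_pow] at h0
    exact (pow_eq_zero_iff hm).mp h0)
  have h := CfsgLib.SL2Trace.psl_pow_cases 2 g
  rw [hF, gcd_two_sub_one hm, Nat.div_one, Nat.div_one] at h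
  exact h.imp orderOf_dvd_of_pow_eq_one (Or.imp orderOf_dvd_of_pow_eq_one orderOf_dvd_of_pow_eq_one)

theorem two_eq_zero_of_card {m : ℕ} (hm : m ≠ 0) (hF : Fintype.card F = 2 ^ m) : (2 : F) = 0 := by
  have h0 := FiniteField.cast_card_eq_zero F
  rw [hF, Nat.cast_pow] at h0
  exact (pow_eq_zero_iff hm).mp (by exact_mod_cast h0)

/-- In characteristic two `PSL(2, F)` is `SL(2, F)`. -/
noncomputable def slEquivPSL (h2 : (2 : F) = 0) :
    SpecialLinearGroup (Fin 2) F ≃* ProjectiveSpecialLinearGroup (Fin 2) F :=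
  ((QuotientGroup.quotientMulEquivOfEq
    (CfsgLib.SEmb.ProjLine.center_eq_bot (F := F) (two_eq_zero_iff_ringChar.mp h2))).trans
      QuotientGroup.quotientBot).symm

end CfsgLib.CITApp
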