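import Cfsg.Agent.S0205
import Cfsg.Agent.Lib.CN.Lift
import Cfsg.Agent.Lib.CIT.Embedded
import Cfsg.Agent.Lib.Invol.GlaubermanZStar
import Cfsg.Agent.Lib.Solvable.Core
import Mathlib.GroupTheory.SpecificGroups.KleinFour

/-!
# Non-solvable CIT groups are almost simple over their largest normal 2-subgroup

Elementary reduction used by the consumers of the classification of simple CIT groups.
-/

set_option autoImplicit false

namespace CfsgLib.CITApp

open CfsgLib.CIT

variable {G : Type*} [Group G] [Finite G]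

/-- A group without commuting involution and element of odd prime order is a CIT group. -/
theorem isCIT_of_no_commute (h : ∀ t x : G, ∀ r : ℕ, r.Prime → r ≠ 2 → orderOf t = 2 →
    orderOf x = r → ¬ Commute t x) : IsCIT G := by
  intro t ht
  haveI : Fact (Nat.Prime 2) := ⟨Nat.prime_two⟩
  refine IsPGroup.of_card (n := (Nat.card (Subgroup.centralizer ({t} : Set G))).primeFactorsList.length) ?_
  refine Nat.eq_prime_pow_of_unique_prime_dvd Nat.card_pos.ne' fun {s} hs hd => ?_
  by_contra hs2
  haveI := Fact.mk hs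
  obtain ⟨⟨x, hx⟩, ho⟩ := exists_prime_orderOf_dvd_card' s hd
  rw [Subgroup.orderOf_mk] at ho
  exact h t x s hs hs2 ht ho (Subgroup.mem_centralizer_singleton_iff.mp hx).symm

theorem not_commute (hC : IsCIT G) {t x : G} {r : ℕ} (hr : r.Prime) (hr2 : r ≠ 2)
    (ht : orderOf t = 2) (hx : orderOf x = r) : ¬ Commute t x := by
  intro hc
  have hx1 := eq_one_of_commute_invol hC ht hc (hx ▸ hr.odd_of_ne_two hr2)
  rw [hx1, orderOf_one] at hx
  exact hr.ne_one hx.symm

/-- A nontrivial 2-element commutes with no nontrivial element of odd order. -/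
theorem eq_one_of_commute_two_elem (hC : IsCIT G) {y d : G} {k : ℕ} (hy : y ^ 2 ^ k = 1)
    (hy1 : y ≠ 1) (hc : Commute y d) (hodd : Odd (orderOf d)) : d = 1 := by
  haveI : Fact (Nat.Prime 2) := ⟨Nat.prime_two⟩
  obtain ⟨j, -, hj⟩ := (Nat.dvd_prime_pow Nat.prime_two).mp (orderOf_dvd_of_pow_eq_one hy)
  have h2 : 2 ∣ orderOf y := by
    rw [hj]; refine dvd_pow_self 2 fun h0 => hy1 ?_
    rw [← orderOf_eq_one_iff, hj, h0, pow_zero]
  exact eq_one_of_commute_invol hC (orderOf_pow_orderOf_div (orderOf_pos y).ne' h2)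
    (hc.pow_left _) hodd

theorem isSolvable_of_normal (N : Subgroup G) [N.Normal] (h1 : Group.IsSolvable ↥N)
    (h2 : Group.IsSolvable (G ⧸ N)) : Group.IsSolvable G := by
  refine Group.isSolvable_of_ker_le_range N.subtype (QuotientGroup.mk' N) ?_
  rw [QuotientGroup.ker_mk', Subgroup.range_subtype]

/-- An involution acting without fixed points on a group of odd order inverts it. -/
theorem inverts (hC : IsCIT G) {t : G} (ht : orderOf t = 2) (N : Subgroup G) [N.Normal]
    (hodd : Odd (Nat.card N)) {n : G} (hn : n ∈ N) : t * n * t = n⁻¹ := by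
  have htt : t * t = 1 := CfsgLib.Invol.mul_self_eq_one ht
  have hti : t⁻¹ = t := inv_eq_of_mul_eq_one_right htt
  have hconj : ∀ a ∈ N, t * a * t ∈ N := fun a ha => by
    simpa [hti] using ‹N.Normal›.conj_mem a ha t
  let f : N → N := fun a => ⟨(a : G) * (t * (a : G)⁻¹ * t), mul_mem a.2 (hconj _ (inv_mem a.2))⟩
  have hf : Function.Injective f := by
    intro a b hab
    have h : (a : G) * (t * (a : G)⁻¹ * t) = (b : G) * (t * (b : G)⁻¹ * t) := congrArg Subtype.val hab
    have hc : Commute t ((b : G)⁻¹ * a) := by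
      show t * ((b : G)⁻¹ * a) = ((b : G)⁻¹ * a) * t
      have h' := congrArg (fun g => (b : G)⁻¹ * g * t * a) h
      simp only [mul_assoc, htt] at h'
      rw [inv_mul_cancel_left] at h'
      simp only [← mul_assoc] at h'
      simp only [mul_assoc] at h' ⊢
      simp at h'
      exact h'.symm
    have h1 := eq_one_of_commute_invol hC ht hc
      (odd_orderOf_of_mem hodd (mul_mem (inv_mem b.2) a.2))
    exact Subtype.ext (inv_mul_eq_one.mp h1).symm
  obtain ⟨⟨a, ha⟩, hfa⟩ := (Finite.injective_iff_surjective.mp hf) ⟨n, hn⟩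
  have h : a * (t * a⁻¹ * t) = n := congrArg Subtype.val hfa
  rw [← h, mul_inv_rev, mul_inv_rev, mul_inv_rev, inv_inv, hti]
  calc t * (a * (t * a⁻¹ * t)) * t = t * a * t * a⁻¹ * (t * t) := by group
    _ = t * a * t * a⁻¹ := by rw [htt, mul_one]
    _ = t * (a * t) * a⁻¹ := by group

/-- A CIT group with a nontrivial normal subgroup of odd order is a 2-group over such a subgroup. -/
theorem exists_two_quotient {G : Type*} [Group G] [Finite G] (hC : IsCIT G)
    (heven : Even (Nat.card G)) (N : Subgroup G) [N.Normal] (hodd : Odd (Nat.card N)) (hN : N ≠ ⊥) :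
    ∃ (K : Subgroup G) (_ : K.Normal), Odd (Nat.card K) ∧ IsPGroup 2 (G ⧸ K) := by
  obtain ⟨⟨n, hn⟩, hn1⟩ := Subgroup.ne_bot_iff_exists_ne_one.mp hN
  replace hn1 : n ≠ 1 := fun h => hn1 (Subtype.ext h)
  have hrank : ∀ E : Subgroup G, ¬ IsKleinFour E := by
    intro E hE
    have hord : ∀ e : E, e ≠ 1 → orderOf (e : G) = 2 := fun e he => by
      rw [Subgroup.orderOf_coe]
      exact orderOf_eq_prime (by rw [sq]; exact IsKleinFour.mul_self e) he
    obtain ⟨a, ha⟩ : ∃ a : E, a ≠ 1 := by
      haveI : Nontrivial E := Finite.one_lt_card_iff_nontrivial.mp (by rw [hE.card_four]; norm_num)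
      exact exists_ne 1
    obtain ⟨b, hb1, hba⟩ : ∃ b : E, b ≠ 1 ∧ b ≠ a := by
      classical
      haveI := Fintype.ofFinite E
      obtain ⟨b, hb⟩ := Finset.exists_mem_notMem_of_card_lt_card (s := ({1, a} : Finset E))
        (t := (Finset.univ : Finset E)) (by
          rw [Finset.card_univ, ← Nat.card_eq_fintype_card, hE.card_four]
          exact lt_of_le_of_lt Finset.card_le_two (by norm_num))
      exact ⟨b, fun h => hb.2 (by simp [h]), fun h => hb.2 (by simp [h])⟩
    have hab : a * b ≠ 1 := fun h => hba (by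
      rw [← inv_eq_of_mul_eq_one_right h, inv_eq_of_mul_eq_one_right (IsKleinFour.mul_self a)])
    have hfix : (a : G) * b * n * ((a : G) * b)⁻¹ = n := by
      have hai : (a : G)⁻¹ = a := inv_eq_of_mul_eq_one_right (congrArg Subtype.val (IsKleinFour.mul_self a))
      have hbi : (b : G)⁻¹ = b := inv_eq_of_mul_eq_one_right (congrArg Subtype.val (IsKleinFour.mul_self b))
      calc (a : G) * b * n * ((a : G) * b)⁻¹ = a * (b * n * b) * a := by
            rw [mul_inv_rev, hai, hbi]; group
        _ = n := by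
            rw [inverts hC (hord b hb1) N hodd hn, inverts hC (hord a ha) N hodd (inv_mem hn), inv_inv]
    refine hn1 (eq_one_of_commute_invol hC (hord (a * b) hab) ?_ (odd_orderOf_of_mem hodd hn))
    exact mul_inv_eq_iff_eq_mul.mp hfix
  obtain ⟨z, hz, K, hK, hKodd, hcomm⟩ := CfsgLib.Invol.exists_central_mod_core heven hrank
  haveI := hK
  have hzz : z * z = 1 := CfsgLib.Invol.mul_self_eq_one hz
  have hzi : z⁻¹ = z := inv_eq_of_mul_eq_one_right hzz
  refine ⟨K, hK, hKodd, ?_⟩
  have hsurj : Function.Surjective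
      ((QuotientGroup.mk' K).comp (Subgroup.centralizer ({z} : Set G)).subtype) := by
    intro q
    obtain ⟨g, rfl⟩ := QuotientGroup.mk'_surjective K q
    set k := z * g * z⁻¹ * g⁻¹ with hk
    obtain ⟨m, hm⟩ : Odd (orderOf k) := odd_orderOf_of_mem hKodd (hcomm g)
    set l := k ^ (m + 1) with hl
    have hll : l * l = k := by
      rw [hl, ← pow_add, show m + 1 + (m + 1) = orderOf k + 1 by omega, pow_succ,
        pow_orderOf_eq_one, one_mul]
    have hkinv : z * k * z⁻¹ = k⁻¹ := by
      rw [hk, mul_inv_rev, mul_inv_rev, mul_inv_rev, inv_inv, inv_inv, hzi]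
      calc z * (z * g * z * g⁻¹) * z = (z * z) * g * z * g⁻¹ * z := by group
        _ = g * (z * (g⁻¹ * z)) := by rw [hzz]; group
    have hlinv : z * l * z⁻¹ = l⁻¹ := by rw [hl, ← conj_pow, hkinv, inv_pow]
    have hlK : l ∈ K := pow_mem (hcomm g) _
    have hzg : z * g * z⁻¹ = k * g := by rw [hk]; group
    refine ⟨⟨l * g, Subgroup.mem_centralizer_singleton_iff.mpr ?_⟩, ?_⟩
    · have : z * (l * g) * z⁻¹ = l * g := by
        rw [show z * (l * g) * z⁻¹ = (z * l * z⁻¹) * (z * g * z⁻¹) by group, hlinv, hzg, ← hll]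
        group
      exact (mul_inv_eq_iff_eq_mul.mp this).symm
    · show (QuotientGroup.mk' K) (l * g) = _
      rw [map_mul, (QuotientGroup.eq_one_iff _).mpr hlK |> fun h : (QuotientGroup.mk' K) l = 1 => h,
        one_mul]
  exact (hC z hz).of_surjective _ hsurj

/-- A non-solvable CIT group has no nontrivial normal subgroup of odd order. -/
theorem eq_bot_of_odd {G : Type*} [Group G] [Finite G] (hC : IsCIT G)
    (hns : ¬ Group.IsSolvable G) (N : Subgroup G) [N.Normal] (hodd : Odd (Nat.card N)) :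
    N = ⊥ := by
  by_contra hN
  have heven : Even (Nat.card G) := by
    rw [← Nat.not_odd_iff_even]
    exact fun h => hns (Cfsg.Agent.S0205.result h)
  obtain ⟨K, hK, hKodd, hq⟩ := exists_two_quotient hC heven N hodd hN
  haveI : Fact (Nat.Prime 2) := ⟨Nat.prime_two⟩
  haveI := hq.isNilpotent
  exact hns (isSolvable_of_normal K (Cfsg.Agent.S0205.result hKodd) inferInstance)

/-- The quotient of a CIT group by a normal 2-subgroup is a CIT group. -/
theorem isCIT_quotient (hC : IsCIT G) (W : Subgroup G) [W.Normal] (hW : IsPGroup 2 W) :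
    IsCIT (G ⧸ W) := by
  refine isCIT_of_no_commute fun t x r hr hr2 ht hx hc => ?_
  haveI := Fact.mk hr
  haveI : Fact (Nat.Prime 2) := ⟨Nat.prime_two⟩
  obtain ⟨t0, rfl⟩ := QuotientGroup.mk'_surjective W t
  obtain ⟨x0, rfl⟩ := QuotientGroup.mk'_surjective W x
  obtain ⟨m, hp, hm1⟩ := CfsgLib.CN.exists_pow_pElem (QuotientGroup.mk' W) (y := x0)
    (CfsgLib.CN.ne_one_of_orderOf_eq hr hx) (CfsgLib.CN.pElem_of_orderOf_eq hx)
  obtain ⟨k, hk⟩ := hp
  have hyodd : Odd (orderOf (x0 ^ m)) :=
    (hr.odd_of_ne_two hr2).pow.of_dvd_nat (orderOf_dvd_of_pow_eq_one hk)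
  obtain ⟨j, hj⟩ := IsPGroup.iff_card.mp hW
  have hcop : (orderOf (x0 ^ m)).Coprime (Nat.card W) := by
    rw [hj]; exact ((Nat.coprime_two_right).mpr hyodd).pow_right j
  obtain ⟨c, hc', hcc⟩ := CfsgLib.CN.exists_commute_lift W (x := t0) hcop (by
    rw [map_pow]; exact (hc.pow_right m).eq)
  have h2 : 2 ∣ orderOf (c * t0) := by
    refine dvd_trans ?_ (orderOf_map_dvd (QuotientGroup.mk' W) _)
    rw [map_mul, show QuotientGroup.mk' W c = 1 from (QuotientGroup.eq_one_iff c).mpr hc', one_mul, ht]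
  have hinv := orderOf_pow_orderOf_div (orderOf_pos (c * t0)).ne' h2
  have h1 := eq_one_of_commute_invol hC hinv (Commute.pow_left hcc _) hyodd
  exact hm1 (by rw [h1, map_one])

theorem not_isSolvable_quotient (hns : ¬ Group.IsSolvable G) (W : Subgroup G) [W.Normal]
    (hW : IsPGroup 2 W) : ¬ Group.IsSolvable (G ⧸ W) := by
  intro h
  haveI : Fact (Nat.Prime 2) := ⟨Nat.prime_two⟩
  haveI := hW.isNilpotent
  exact hns (isSolvable_of_normal W inferInstance h)

/-- A CIT group with no normal 2-subgroup has a simple normal subgroup with trivial centraliser. -/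
theorem exists_socle {X : Type*} [Group X] [Finite X] (hC : IsCIT X)
    (hns : ¬ Group.IsSolvable X) (h2 : Cfsg.pCore 2 X = ⊥) :
    ∃ T : Subgroup X, T.Normal ∧ IsSimpleGroup T ∧ ∃ a b : T, a * b ≠ b * a := by
  haveI : Fact (Nat.Prime 2) := ⟨Nat.prime_two⟩
  classical
  have hne : ∃ n, ∃ N : Subgroup X, N.Normal ∧ N ≠ ⊥ ∧ Nat.card N = n := by
    refine ⟨_, ⊤, inferInstance, fun h => hns ?_, rfl⟩
    haveI : Subsingleton X := Subgroup.subsingleton_iff.mp ((subsingleton_iff_bot_eq_top).mp h.symm)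
    infer_instance
  obtain ⟨T, hTn, hT1, hTc⟩ := Nat.find_spec hne
  haveI := hTn
  have hmin : ∀ N : Subgroup X, N.Normal → N ≤ T → N = ⊥ ∨ N = T := by
    intro N hN hle
    rcases eq_or_ne N ⊥ with h | h
    · exact Or.inl h
    · exact Or.inr (Subgroup.eq_of_le_of_card_ge hle
        (hTc ▸ Nat.find_min' hne ⟨N, hN, h, rfl⟩))
  -- normal 2-subgroups and normal subgroups of odd order of `X` are trivial
  have hbot2 : ∀ N : Subgroup X, N.Normal → IsPGroup 2 N → N = ⊥ := fun N hN hp =>
    le_bot_iff.mp (h2 ▸ CfsgLib.Solvable.le_pCore hN hp)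
  have hbotodd : ∀ N : Subgroup X, N.Normal → Odd (Nat.card N) → N = ⊥ := fun N hN hp => by
    haveI := hN
    exact eq_bot_of_odd hC hns N hp
  refine ⟨T, hTn, ?_, ?_⟩
  · haveI : Nontrivial T := (Subgroup.nontrivial_iff_ne_bot T).mpr hT1
    constructor
    intro M hM
    by_contra hcon
    push Not at hcon
    -- a minimal counterexample normal in `T`
    obtain ⟨M, ⟨hM, hM1, hMT⟩, hMmin⟩ := Set.exists_min_image
      {M : Subgroup T | M.Normal ∧ M ≠ ⊥ ∧ M ≠ ⊤} (fun M => Nat.card M) (Set.toFinite _)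
      ⟨M, hM, hcon.1, hcon.2⟩
    haveI := hM
    set M' := M.map T.subtype with hM'
    have hcardM : Nat.card M' = Nat.card M := Subgroup.card_map_of_injective T.subtype_injective
    obtain ⟨x, hx⟩ : ∃ x : X, M.map (MulAut.conjNormal (H := T) x).toMonoidHom ≠ M := by
      by_contra hall
      push Not at hall
      have hn : M'.Normal := by
        constructor
        rintro _ ⟨a, ha, rfl⟩ g
        exact ⟨MulAut.conjNormal g a, hall g ▸ Subgroup.mem_map_of_mem _ ha,
          MulAut.conjNormal_apply g a⟩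
      rcases hmin M' hn (Subgroup.map_subtype_le M) with h | h
      · exact hM1 ((Subgroup.map_eq_bot_iff_of_injective M T.subtype_injective).mp h)
      · exact hMT (Subgroup.eq_top_of_card_eq M (by rw [← hcardM, h]))
    set φ := MulAut.conjNormal (H := T) x with hφ
    set M2 := M.map φ.toMonoidHom with hM2
    haveI hM2n : M2.Normal := hM.map _ φ.surjective
    have hdisj : Disjoint M M2 := by
      rw [disjoint_iff]
      by_contra hne'
      have hc := hMmin (M ⊓ M2) ⟨inferInstance, hne', fun h => hMT (top_le_iff.mp (h ▸ inf_le_left))⟩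
      have h1 : M ⊓ M2 = M := Subgroup.eq_of_le_of_card_ge inf_le_left hc
      refine hx (Subgroup.eq_of_le_of_card_ge (inf_eq_left.mp h1) ?_).symm
      exact (Subgroup.card_map_of_injective φ.injective).le
    -- `M` is a 2-group or has odd order
    have hkey : IsPGroup 2 M ∨ Odd (Nat.card M) := by
      rcases Nat.even_or_odd (Nat.card M) with he | ho
      · left
        obtain ⟨a, ha⟩ := exists_prime_orderOf_dvd_card' 2 (even_iff_two_dvd.mp he)
        refine IsPGroup.of_card (n := (Nat.card M).primeFactorsList.length)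
          (Nat.eq_prime_pow_of_unique_prime_dvd Nat.card_pos.ne' fun {s} hs hd => ?_)
        by_contra hs2
        haveI := Fact.mk hs
        obtain ⟨b, hb⟩ := exists_prime_orderOf_dvd_card' s hd
        refine not_commute hC (t := ((a : T) : X)) (x := ((φ b : T) : X)) hs hs2
          (by rw [Subgroup.orderOf_coe, Subgroup.orderOf_coe]; exact ha) ?_ ?_
        · rw [Subgroup.orderOf_coe, φ.orderOf_eq, Subgroup.orderOf_coe]; exact hb
        · exact congrArg Subtype.val (Subgroup.commute_of_normal_of_disjoint M M2 hM hM2n hdisj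
            (a : T) (φ b) a.2 (Subgroup.mem_map_of_mem _ b.2))
      · exact Or.inr ho
    rcases hkey with h | h
    · have hle : M ≤ Cfsg.pCore 2 T := CfsgLib.Solvable.le_pCore hM h
      haveI : (Cfsg.pCore 2 T).Characteristic := CfsgLib.Solvable.pCore_characteristic 2 T
      have := hbot2 ((Cfsg.pCore 2 T).map T.subtype) inferInstance
        ((CfsgLib.Solvable.pCore_isPGroup 2 T).map _)
      rw [Subgroup.map_eq_bot_iff_of_injective _ T.subtype_injective] at this
      exact hM1 (le_bot_iff.mp (this ▸ hle))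
    · have hle : M ≤ Cfsg.pPrimeCore 2 T :=
        CfsgLib.Solvable.le_pPrimeCore hM (Nat.coprime_two_right.mpr h)
      haveI : (Cfsg.pPrimeCore 2 T).Characteristic := CfsgLib.Solvable.pPrimeCore_characteristic 2 T
      have := hbotodd ((Cfsg.pPrimeCore 2 T).map T.subtype) inferInstance
        (by rw [Subgroup.card_map_of_injective T.subtype_injective]
            exact Nat.coprime_two_right.mp (CfsgLib.Solvable.pPrimeCore_card_coprime 2 T))
      rw [Subgroup.map_eq_bot_iff_of_injective _ T.subtype_injective] at this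
      exact hM1 (le_bot_iff.mp (this ▸ hle))
  · by_contra hab
    push Not at hab
    have hA : ∀ a ∈ T, ∀ b ∈ T, a * b = b * a := fun a ha b hb =>
      congrArg Subtype.val (hab ⟨a, ha⟩ ⟨b, hb⟩)
    -- the elements of square one form a normal 2-subgroup
    let E : Subgroup X :=
      { carrier := {a | a ∈ T ∧ a * a = 1}
        one_mem' := ⟨T.one_mem, one_mul 1⟩
        mul_mem' := fun {a b} ha hb => ⟨T.mul_mem ha.1 hb.1, by
          rw [mul_assoc, ← mul_assoc b a b, ← hA a ha.1 b hb.1, mul_assoc a b b, hb.2, mul_one, ha.2]⟩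
        inv_mem' := fun {a} ha => ⟨T.inv_mem ha.1, by rw [← mul_inv_rev, ha.2, inv_one]⟩ }
    have hEn : E.Normal := ⟨fun a ha g => ⟨hTn.conj_mem a ha.1 g, by
      rw [show g * a * g⁻¹ * (g * a * g⁻¹) = g * (a * a) * g⁻¹ by group, ha.2]; group⟩⟩
    have hE : E = ⊥ := hbot2 E hEn fun a => ⟨1, Subtype.ext (by
      rw [pow_one, sq]; exact a.2.2)⟩
    refine hT1 (hbotodd T hTn (odd_card_of_no_invol fun t ht ho => ?_))
    have htE : t ∈ E := ⟨ht, CfsgLib.Invol.mul_self_eq_one ho⟩
    rw [hE, Subgroup.mem_bot] at htE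
    exact CfsgLib.Invol.ne_one_of_invol ho htE

/-- If the involutions of the socle form one class then the socle has 2-power index. -/
theorem isPGroup_quotient (hC : IsCIT G) (T : Subgroup G) [T.Normal] {s : G} (hs : orderOf s = 2)
    (hsT : s ∈ T) (hone : ∀ u ∈ T, orderOf u = 2 → ∃ a ∈ T, a * u * a⁻¹ = s) :
    IsPGroup 2 (G ⧸ T) := by
  refine (hC s hs).of_surjective
    ((QuotientGroup.mk' T).comp (Subgroup.centralizer ({s} : Set G)).subtype) fun q => ?_
  obtain ⟨g, rfl⟩ := QuotientGroup.mk'_surjective T q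
  obtain ⟨a, ha, hac⟩ := hone (g * s * g⁻¹) (‹T.Normal›.conj_mem s hsT g)
    (by rw [CfsgLib.Invol.orderOf_conj, hs])
  refine ⟨⟨a * g, Subgroup.mem_centralizer_singleton_iff.mpr ?_⟩, ?_⟩
  · have : a * g * s * (a * g)⁻¹ = s := by
      rw [show a * g * s * (a * g)⁻¹ = a * (g * s * g⁻¹) * a⁻¹ by group, hac]
    exact mul_inv_eq_iff_eq_mul.mp this
  · show QuotientGroup.mk' T (a * g) = QuotientGroup.mk' T g
    rw [map_mul, show QuotientGroup.mk' T a = 1 from (QuotientGroup.eq_one_iff a).mpr ha, one_mul]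

/-- Modulo a normal 2-subgroup and a socle of 2-power index the odd primes do not change. -/
theorem dvd_card_iff (W : Subgroup G) [W.Normal] (hW : IsPGroup 2 W) (T : Subgroup (G ⧸ W))
    [T.Normal] (hT : IsPGroup 2 ((G ⧸ W) ⧸ T)) {r : ℕ} (hr : r.Prime) (hr2 : r ≠ 2) :
    r ∣ Nat.card G ↔ r ∣ Nat.card T := by
  haveI : Fact (Nat.Prime 2) := ⟨Nat.prime_two⟩
  obtain ⟨i, hi⟩ := IsPGroup.iff_card.mp hW
  obtain ⟨j, hj⟩ := IsPGroup.iff_card.mp hT
  have h : Nat.card G = (2 ^ i * 2 ^ j) * Nat.card T := by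
    rw [← W.card_mul_index, hi, Subgroup.index_eq_card, ← T.card_mul_index,
      Subgroup.index_eq_card, hj]
    ring
  rw [h]
  refine ⟨fun hd => ((hr.dvd_mul).mp hd).resolve_left fun hd' => ?_, fun hd => hd.mul_left _⟩
  rw [← pow_add] at hd'
  exact hr2 ((Nat.prime_dvd_prime_iff_eq hr Nat.prime_two).mp (hr.dvd_of_dvd_pow hd'))

end CfsgLib.CITApp
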