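import Cfsg.Agent.Lib.CIT.Main
import Cfsg.Agent.Lib.CIT.MaxAbelian
import Cfsg.Agent.Lib.CIT.Natural.Basic
import Cfsg.Agent.Lib.CITApp.Reduction
import Cfsg.Agent.Lib.CITApp.Classes

/-!
# One class of involutions in simple CIT groups without elements of order three

A TI Sylow 2-subgroup forces one class of involutions, and an offender in a 2-local forces an
element of order three.
-/

set_option autoImplicit false

namespace CfsgLib.CITApp

open CfsgLib.CIT
open scoped IsMulCommutative

variable {G : Type*} [Group G] [Finite G]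

/-- A natural 2-local contains elements of order three. -/
theorem three_dvd_card_of_natural (hC : IsCIT G) {V A : Subgroup G} {q : ℕ}
    (h : NaturalLocal V A q) : 3 ∣ Nat.card G := by
  haveI := h.comm_V
  have hs := h.setting hC
  have hA := h.isOffender hC
  obtain ⟨x, hx⟩ := hA.exists_conj_ne hs
  obtain ⟨a, ha, ha1⟩ := hA.exists_mem hs
  obtain ⟨w, -, -, -, -, h3⟩ := hA.exists_swap hs hx ha ha1
  have h1 := orderOf_dvd_natCard (a * w)
  rw [h3] at h1
  exact h1.trans ((Subgroup.card_range_dvd _).trans (Subgroup.card_subgroup_dvd_card _))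

/-- With a TI Sylow 2-subgroup all involutions are conjugate. -/
theorem oneClass_of_isTI [IsSimpleGroup G] (hab : ∃ a b : G, a * b ≠ b * a) (hC : IsCIT G)
    (S : Sylow 2 G) (hTI : IsTI S) (h2 : 2 ∣ Nat.card G) : OneClass G := by
  haveI : Fact (Nat.Prime 2) := ⟨Nat.prime_two⟩
  obtain ⟨⟨t, htS⟩, ht⟩ : ∃ t : (S : Subgroup G), orderOf t = 2 :=
    exists_prime_orderOf_dvd_card' 2 (S.dvd_card_of_dvd_card h2)
  rw [Subgroup.orderOf_mk] at ht
  have hcent : ∀ x ∈ (S : Subgroup G), orderOf x = 2 → ∀ y, orderOf y = 2 → Commute x y →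
      y ∈ (S : Subgroup G) := by
    intro x hx hxo y hyo hc
    refine mem_sylow_of_invol S hyo ?_
    by_contra hy
    have h1 := hTI y hy x hx (by rw [mul_assoc, hc.eq, inv_mul_cancel_left]; exact hx)
    rw [h1, orderOf_one] at hxo
    omega
  suffices hall : ∀ u : G, orderOf u = 2 → IsConj u t from fun x y hx hy =>
    (hall x hx).trans (hall y hy).symm
  intro u hu
  by_contra hcon
  have hconjS : ∀ g : G, g * u * g⁻¹ ∈ (S : Subgroup G) := by
    intro g
    have hu' : orderOf (g * u * g⁻¹) = 2 := by rw [CfsgLib.Invol.orderOf_conj, hu]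
    have hnc : ¬ IsConj (g * u * g⁻¹) t := fun h => hcon ((isConj_iff.mpr ⟨g, rfl⟩).trans h)
    obtain ⟨-, hwo, hwt, hwu⟩ := CfsgLib.Invol.exists_middle_of_not_isConj ht hu'
      (fun h => hnc h.symm)
    exact hcent _ (hcent t htS ht _ hwo hwt.symm) hwo _ hu' hwu
  have hN : Subgroup.normalizer ((S : Subgroup G) : Set G) = ⊤ := by
    refine (Subgroup.eq_top_iff' _).mpr fun g => by_contra fun hg => ?_
    have h1 := hTI g hg u (by simpa using hconjS 1) (by simpa using hconjS g⁻¹)
    rw [h1, orderOf_one] at hu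
    omega
  haveI := Subgroup.normalizer_eq_top_iff.mp hN
  rcases IsSimpleGroup.eq_bot_or_eq_top_of_normal (S : Subgroup G) inferInstance with h | h
  · exact S.ne_bot_of_dvd_card h2 h
  · have hp : IsPGroup 2 G := (h ▸ S.2 : IsPGroup 2 (⊤ : Subgroup G)).of_equiv Subgroup.topEquiv
    haveI := hp.isNilpotent
    obtain ⟨a, b, hab⟩ := hab
    exact hab (IsSimpleGroup.comm_iff_isSolvable.mpr inferInstance a b)

/-- A simple CIT group of order prime to three has one class of involutions. -/
theorem oneClass_of_not_three_dvd [IsSimpleGroup G] (hab : ∃ a b : G, a * b ≠ b * a)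
    (hC : IsCIT G) (h3 : ¬ 3 ∣ Nat.card G) : OneClass G := by
  obtain ⟨S⟩ : Nonempty (Sylow 2 G) := inferInstance
  refine oneClass_of_isTI hab hC S
    (isTI_of_forall_not_isOffending hab hC S (two_dvd_card hab) fun Q R A h => h3 ?_) (two_dvd_card hab)
  obtain ⟨V, A', q, hn⟩ := exists_naturalLocal hC h
  exact three_dvd_card_of_natural hC hn

end CfsgLib.CITApp
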