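import Cfsg.Agent.Lib.CITApp.Reduction
import Cfsg.Agent.Lib.CITApp.Classes
import Cfsg.Agent.Lib.Linear.Card

/-!
# A CIT group with socle `SL(2, 2^n)`, `2^n > 4`, is equal to it
-/

set_option autoImplicit false

namespace CfsgLib.CITApp

open Matrix CfsgLib.CIT

variable {F : Type*} [Field F] [Fintype F]

/-- The diagonal element. -/
def tor (a : Fˣ) : SpecialLinearGroup (Fin 2) F :=
  ⟨!![(a : F), 0; 0, ((a⁻¹ : Fˣ) : F)], by simp [Matrix.det_fin_two]⟩

/-- The upper unipotent element. -/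
def uni (s : F) : SpecialLinearGroup (Fin 2) F :=
  ⟨!![1, s; 0, 1], by simp [Matrix.det_fin_two]⟩

theorem tor_one : tor (1 : Fˣ) = 1 := by
  refine Subtype.ext ?_; ext i j; fin_cases i <;> fin_cases j <;> simp [tor]

theorem tor_mul (a b : Fˣ) : tor (a * b) = tor a * tor b := by
  refine Subtype.ext ?_
  show _ = (tor a).1 * (tor b).1
  ext i j; fin_cases i <;> fin_cases j <;>
    simp [tor, Matrix.mul_apply, Fin.sum_univ_two, mul_comm]

/-- The diagonal homomorphism. -/
def torHom : Fˣ →* SpecialLinearGroup (Fin 2) F where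
  toFun := tor
  map_one' := tor_one
  map_mul' := tor_mul

theorem tor_injective : Function.Injective (tor (F := F)) := fun a b h =>
  Units.ext (by simpa [tor] using congrFun (congrFun (congrArg Subtype.val h) 0) 0)

theorem uni_zero : uni (0 : F) = 1 := by
  refine Subtype.ext ?_; ext i j; fin_cases i <;> fin_cases j <;> simp [uni]

theorem uni_add (a b : F) : uni (a + b) = uni a * uni b := by
  refine Subtype.ext ?_
  show _ = (uni a).1 * (uni b).1
  ext i j; fin_cases i <;> fin_cases j <;> simp [uni, Matrix.mul_apply, Fin.sum_univ_two, add_comm]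

/-- The unipotent homomorphism. -/
def uniHom : Multiplicative F →* SpecialLinearGroup (Fin 2) F where
  toFun s := uni s.toAdd
  map_one' := uni_zero
  map_mul' a b := uni_add a.toAdd b.toAdd

theorem uni_injective : Function.Injective (uni (F := F)) := fun a b h => by
  simpa [uni] using congrFun (congrFun (congrArg Subtype.val h) 0) 1

theorem tor_uni (a : Fˣ) (s : F) : tor a * uni s = uni ((a : F) * a * s) * tor a := by
  refine Subtype.ext ?_
  show (tor a).1 * (uni s).1 = (uni ((a : F) * a * s)).1 * (tor a).1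
  ext i j; fin_cases i <;> fin_cases j <;> simp [tor, uni, Matrix.mul_apply, Fin.sum_univ_two]
  field_simp

theorem odd_orderOf_tor (h2 : (2 : F) = 0) (a : Fˣ) : Odd (orderOf (tor a)) := by
  haveI : CharP F 2 := CharTwo.of_one_ne_zero_of_two_eq_zero one_ne_zero h2
  have h1 : orderOf (tor a) ∣ Fintype.card F - 1 := by
    refine orderOf_dvd_of_pow_eq_one ?_
    have : a ^ (Fintype.card F - 1) = 1 := by
      rw [← Nat.card_eq_fintype_card (α := F), ← Nat.card_units]; exact pow_card_eq_one'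
    show torHom a ^ (Fintype.card F - 1) = 1
    rw [← map_pow, this, map_one]
  refine Odd.of_dvd_nat ?_ h1
  obtain ⟨n, hn, hc⟩ := FiniteField.card F 2
  rw [hc]
  exact Nat.Even.sub_odd Nat.one_le_two_pow (Nat.even_pow.mpr ⟨even_two, n.ne_zero⟩) odd_one

/-- An element mapping `uni 1` into the upper unipotent group is upper triangular. -/
theorem entry_eq_zero {z : SpecialLinearGroup (Fin 2) F} {s : F} (h : z * uni 1 = uni s * z) :
    (z : Matrix (Fin 2) (Fin 2) F) 1 0 = 0 := by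
  have h' : (z : Matrix (Fin 2) (Fin 2) F) * (uni 1).1 = (uni s).1 * (z : Matrix (Fin 2) (Fin 2) F) :=
    congrArg Subtype.val h
  have h1 := congrFun (congrFun h' 1) 1
  simp [uni, Matrix.mul_apply, Fin.sum_univ_two] at h1
  linear_combination h1

/-- Upper triangular elements are products of a unipotent and a diagonal element. -/
theorem exists_uni_tor {z : SpecialLinearGroup (Fin 2) F}
    (h : (z : Matrix (Fin 2) (Fin 2) F) 1 0 = 0) : ∃ a s, z = uni s * tor a := by
  have hd : (z : Matrix (Fin 2) (Fin 2) F) 0 0 * (z : Matrix (Fin 2) (Fin 2) F) 1 1 = 1 := by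
    have := z.2
    rw [Matrix.det_fin_two, h, mul_zero, sub_zero] at this
    exact this
  refine ⟨Units.mkOfMulEqOne _ _ hd, (z : Matrix (Fin 2) (Fin 2) F) 0 1 * (z : Matrix (Fin 2) (Fin 2) F) 0 0,
    Subtype.ext ?_⟩
  show (z : Matrix (Fin 2) (Fin 2) F) = (uni _).1 * (tor _).1
  ext i j; fin_cases i <;> fin_cases j <;> simp [tor, uni, Matrix.mul_apply, Fin.sum_univ_two]
  · rw [inv_eq_of_mul_eq_one_right hd]
    linear_combination -(z : Matrix (Fin 2) (Fin 2) F) 0 1 * hd
  · exact h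
  · exact (inv_eq_of_mul_eq_one_right hd).symm

theorem commute_tor_of_mul_tor {a : Fˣ} (ha : (a : F) * a ≠ 1) {z : SpecialLinearGroup (Fin 2) F}
    (h : z * tor a = tor a * z) : ∃ b, z = tor b := by
  have h' : (z : Matrix (Fin 2) (Fin 2) F) * (tor a).1 = (tor a).1 * (z : Matrix (Fin 2) (Fin 2) F) :=
    congrArg Subtype.val h
  have hne : ((a⁻¹ : Fˣ) : F) - a ≠ 0 := fun e => ha (by
    rw [sub_eq_zero] at e
    nth_rewrite 1 [← e]
    exact a.inv_mul)
  have h01 := congrFun (congrFun h' 0) 1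
  have h10 := congrFun (congrFun h' 1) 0
  simp [tor, Matrix.mul_apply, Fin.sum_univ_two] at h01 h10
  have z01 : (z : Matrix (Fin 2) (Fin 2) F) 0 1 = 0 := by
    have : (z : Matrix (Fin 2) (Fin 2) F) 0 1 * (((a⁻¹ : Fˣ) : F) - a) = 0 := by
      simp only [Units.val_inv_eq_inv_val]; linear_combination h01
    exact (mul_eq_zero.mp this).resolve_right hne
  have z10 : (z : Matrix (Fin 2) (Fin 2) F) 1 0 = 0 := by
    have : (z : Matrix (Fin 2) (Fin 2) F) 1 0 * (((a⁻¹ : Fˣ) : F) - a) = 0 := by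
      simp only [Units.val_inv_eq_inv_val]; linear_combination -h10
    exact (mul_eq_zero.mp this).resolve_right hne
  obtain ⟨b, s, rfl⟩ := exists_uni_tor z10
  refine ⟨b, ?_⟩
  have hs : s = 0 := by
    have e : (uni s * tor b : SpecialLinearGroup (Fin 2) F).1 0 1 = s * ((b⁻¹ : Fˣ) : F) := by
      show ((uni s).1 * (tor b).1) 0 1 = _
      simp [uni, tor, Matrix.mul_apply, Fin.sum_univ_two]
    rw [z01] at e
    exact (mul_eq_zero.mp e.symm).resolve_right (Units.ne_zero _)
  rw [hs, uni_zero, one_mul]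

theorem exists_conj_uni_tor {b : Fˣ} (hb : (b : F) * b ≠ 1) (s : F) :
    ∃ r, uni r * (uni s * tor b) = tor b * uni r := by
  have h : 1 - (b : F) * b ≠ 0 := sub_ne_zero.mpr (Ne.symm hb)
  refine ⟨-s / (1 - (b : F) * b), ?_⟩
  rw [← mul_assoc, ← uni_add, tor_uni]
  congr 2
  rw [div_add' _ _ _ h, mul_div_assoc']
  congr 1
  ring

theorem sylow_range (h2 : (2 : F) = 0) :
    IsPGroup 2 (uniHom (F := F)).range ∧ ¬ 2 ∣ (uniHom (F := F)).range.index := by
  haveI : CharP F 2 := CharTwo.of_one_ne_zero_of_two_eq_zero one_ne_zero h2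
  obtain ⟨n, hn, hc⟩ := FiniteField.card F 2
  have hcard : Nat.card (uniHom (F := F)).range = Fintype.card F := by
    rw [← Nat.card_congr (MonoidHom.ofInjective (f := uniHom (F := F))
      (fun x y h => Multiplicative.toAdd.injective (uni_injective (F := F) h))).toEquiv,
      Nat.card_congr Multiplicative.toAdd, Nat.card_eq_fintype_card]
  refine ⟨IsPGroup.of_card (hcard.trans hc), ?_⟩
  have h := (uniHom (F := F)).range.card_mul_index
  rw [hcard, CfsgLib.Linear.card_SL_two, hc] at h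
  have hi := mul_left_cancel₀ (pow_ne_zero _ two_ne_zero) h
  rw [hi, ← even_iff_two_dvd, Nat.not_even_iff_odd]
  exact Nat.Even.sub_odd (Nat.one_le_pow _ _ (by positivity))
    (Nat.even_pow.mpr ⟨Nat.even_pow.mpr ⟨even_two, n.ne_zero⟩, two_ne_zero⟩) odd_one

/-- No element lies outside a socle `SL(2, 2^n)`, `2^n > 4`, of a CIT group. -/
theorem eq_top_of_sl_two {X : Type*} [Group X] [Finite X] (hC : IsCIT X) (T : Subgroup X) [T.Normal]
    (e : SpecialLinearGroup (Fin 2) F ≃* T) (h2 : (2 : F) = 0) (hq : 4 < Fintype.card F) : T = ⊤ := by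
  haveI : Fact (Nat.Prime 2) := ⟨Nat.prime_two⟩
  haveI : CharP F 2 := CharTwo.of_one_ne_zero_of_two_eq_zero one_ne_zero h2
  set ι : SpecialLinearGroup (Fin 2) F →* X := T.subtype.comp e.toMonoidHom with hι
  have hιinj : Function.Injective ι := T.subtype_injective.comp e.injective
  have hιmem : ∀ g, ι g ∈ T := fun g => (e g).2
  have hιsurj : ∀ t ∈ T, ∃ g, ι g = t := fun t ht => ⟨e.symm ⟨t, ht⟩, by simp [hι]⟩
  have hιord : ∀ g, orderOf (ι g) = orderOf g := fun g => orderOf_injective ι hιinj g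
  -- all involutions of `T` are conjugate in `T`
  have hu2 : ∀ s : F, s ≠ 0 → orderOf (uni s) = 2 := fun s hs => orderOf_eq_prime
    (by rw [sq, ← uni_add, two_eq_zero_iff_ringChar.mp h2, uni_zero])
    (fun h => hs (uni_injective (h.trans uni_zero.symm)))
  have hone : ∀ u ∈ T, orderOf u = 2 → ∃ a ∈ T, a * u * a⁻¹ = ι (uni 1) := by
    intro u hu ho
    obtain ⟨g, rfl⟩ := hιsurj u hu
    have hg : g * g = 1 := hιinj (by rw [map_mul, map_one, CfsgLib.Invol.mul_self_eq_one ho])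
    have hg1 : g ≠ 1 := fun h => by rw [h, map_one, orderOf_one] at ho; omega
    obtain ⟨P, hP⟩ := sl_two_exists_conj h2 hg hg1
    refine ⟨ι P⁻¹, hιmem _, ?_⟩
    rw [← map_inv, ← map_mul, ← map_mul, inv_inv, mul_assoc, hP, inv_mul_cancel_left]
    rfl
  have hq2 := isPGroup_quotient hC T (s := ι (uni 1)) (by rw [hιord, hu2 1 one_ne_zero]) (hιmem _) hone
  by_contra hT
  obtain ⟨x, hx⟩ : ∃ x, x ∉ T := by
    by_contra h; push Not at h; exact hT ((Subgroup.eq_top_iff' T).mpr h)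
  -- Frattini: move `x` into the normaliser of the unipotent group
  obtain ⟨hUp, hUi⟩ := sylow_range (F := F) h2
  set U := ((uniHom (F := F)).range).map ι with hU
  have hUT : U ≤ T := by rintro _ ⟨g, -, rfl⟩; exact hιmem g
  let P : Sylow 2 T := (hUp.map e.toMonoidHom).toSylow (by
    rw [Subgroup.index_map_of_bijective e.bijective]; exact hUi)
  have hPU : (P : Subgroup T).map T.subtype = U := by
    show (((uniHom (F := F)).range).map e.toMonoidHom).map T.subtype = U
    rw [Subgroup.map_map]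
  obtain ⟨y, hyN, hyT⟩ : ∃ y ∈ Subgroup.normalizer (U : Set X), y ∉ T := by
    by_contra hall
    push Not at hall
    have h := Sylow.normalizer_sup_eq_top P
    rw [hPU] at h
    exact hT (top_le_iff.mp (h ▸ sup_le hall le_rfl))
  have hUmem : ∀ {w : X}, w ∈ U ↔ ∃ s, ι (uni s) = w := fun {w} => by
    constructor
    · rintro ⟨_, ⟨s, rfl⟩, rfl⟩; exact ⟨s.toAdd, rfl⟩
    · rintro ⟨s, rfl⟩; exact ⟨_, ⟨Multiplicative.ofAdd s, rfl⟩, rfl⟩
  obtain ⟨s0, hs0⟩ : ∃ s, ι (uni s) = y * ι (uni 1) * y⁻¹ :=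
    hUmem.mp ((Subgroup.mem_normalizer_iff.mp hyN _).mp (hUmem.mpr ⟨1, rfl⟩))
  have hs00 : s0 ≠ 0 := by
    rintro rfl
    rw [uni_zero, map_one] at hs0
    have h1 : ι (uni 1) = 1 := conj_eq_one_iff.mp hs0.symm
    exact one_ne_zero (uni_injective (hιinj (h1.trans (map_one ι).symm) |>.trans uni_zero.symm))
  obtain ⟨l, hl⟩ := exists_sq h2 s0⁻¹
  have hl0 : l ≠ 0 := fun h => hs00 (by rw [h, zero_mul] at hl; exact inv_eq_zero.mp hl.symm)
  set z := ι (tor (Units.mk0 l hl0)) * y with hz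
  have hzs : z * ι (uni 1) * z⁻¹ = ι (uni 1) := by
    rw [hz, show ι (tor (Units.mk0 l hl0)) * y * ι (uni 1) * (ι (tor (Units.mk0 l hl0)) * y)⁻¹ =
      ι (tor (Units.mk0 l hl0)) * (y * ι (uni 1) * y⁻¹) * (ι (tor (Units.mk0 l hl0)))⁻¹ by group,
      ← hs0, ← map_inv, ← map_mul, ← map_mul, tor_uni, mul_inv_cancel_right, Units.val_mk0, hl,
      inv_mul_cancel₀ hs00]
  have htorN : ∀ a : Fˣ, ∀ w ∈ U, ι (tor a) * w * (ι (tor a))⁻¹ ∈ U := fun a w hw => by
    obtain ⟨s, rfl⟩ := hUmem.mp hw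
    rw [← map_inv, ← map_mul, ← map_mul, tor_uni, mul_inv_cancel_right]
    exact hUmem.mpr ⟨_, rfl⟩
  have hzU : ∀ w ∈ U, z * w * z⁻¹ ∈ U := fun w hw => by
    rw [hz, show ι (tor (Units.mk0 l hl0)) * y * w * (ι (tor (Units.mk0 l hl0)) * y)⁻¹ =
      ι (tor (Units.mk0 l hl0)) * (y * w * y⁻¹) * (ι (tor (Units.mk0 l hl0)))⁻¹ by group]
    exact htorN _ _ ((Subgroup.mem_normalizer_iff.mp hyN w).mp hw)
  have hzT : z ∉ T := fun h => hyT ((T.mul_mem_cancel_left (hιmem _)).mp h)
  -- adjust `z` so that it normalises the torus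
  obtain ⟨b0, hb0⟩ : ∃ b0 : Fˣ, (b0 : F) * b0 ≠ 1 := by
    by_contra hall
    push Not at hall
    have hsub : ∀ a : F, a = 0 ∨ a = 1 := fun a => by
      rcases eq_or_ne a 0 with h | h
      · exact Or.inl h
      · right
        have h' : (a - 1) ^ 2 = 0 := by
          have := hall (Units.mk0 a h)
          rw [Units.val_mk0] at this
          linear_combination this + (1 - a) * h2
        exact sub_eq_zero.mp ((pow_eq_zero_iff two_ne_zero).mp h')
    classical
    have : (Finset.univ : Finset F) ⊆ {0, 1} := fun a _ => by rcases hsub a with h | h <;> simp [h]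
    have := (Finset.card_le_card this).trans Finset.card_le_two
    rw [Finset.card_univ] at this
    omega
  obtain ⟨g, hg⟩ := hιsurj _ (‹T.Normal›.conj_mem _ (hιmem (tor b0)) z)
  have hg10 : (g : Matrix (Fin 2) (Fin 2) F) 1 0 = 0 := by
    obtain ⟨s, hs⟩ : ∃ s, ι (uni s) = ι g * ι (uni 1) * (ι g)⁻¹ := by
      refine hUmem.mp ?_
      rw [hg, show z * ι (tor b0) * z⁻¹ * ι (uni 1) * (z * ι (tor b0) * z⁻¹)⁻¹ =
        z * (ι (tor b0) * (z⁻¹ * ι (uni 1) * z) * (ι (tor b0))⁻¹) * z⁻¹ by group]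
      refine hzU _ (htorN _ _ ?_)
      have : z⁻¹ * ι (uni 1) * z = ι (uni 1) := by
        nth_rewrite 1 [← hzs]; group
      rw [this]; exact hUmem.mpr ⟨1, rfl⟩
    refine entry_eq_zero (s := s) (hιinj ?_)
    rw [map_mul, map_mul, hs, inv_mul_cancel_right]
  obtain ⟨b1, s1, rfl⟩ := exists_uni_tor hg10
  have hb1 : (b1 : F) * b1 ≠ 1 := by
    intro h
    have hb : b1 = 1 := by
      refine Units.ext (sub_eq_zero.mp ((pow_eq_zero_iff two_ne_zero).mp
        (show ((b1 : F) - (1 : Fˣ)) ^ 2 = 0 by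
          rw [Units.val_one]; linear_combination h + (1 - (b1 : F)) * h2)))
    have h' : orderOf (tor b0) ∣ 2 := by
      rw [← hιord, show orderOf (ι (tor b0)) = orderOf (ι (uni s1 * tor b1)) by
        rw [hg, CfsgLib.Invol.orderOf_conj], hιord, hb, tor_one, mul_one]
      rcases eq_or_ne s1 0 with h1 | h1
      · rw [h1, uni_zero, orderOf_one]; exact one_dvd _
      · rw [hu2 s1 h1]
    rcases (Nat.dvd_prime Nat.prime_two).mp h' with h1 | h1
    · exact hb0 (by rw [tor_injective ((orderOf_eq_one_iff.mp h1).trans tor_one.symm)]; simp)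
    · exact Nat.not_even_iff_odd.mpr (odd_orderOf_tor h2 b0) (by rw [h1]; exact even_two)
  obtain ⟨r, hr⟩ := exists_conj_uni_tor hb1 s1
  set w := ι (uni r) * z with hw
  have huU : ∀ v ∈ U, ι (uni r) * v * (ι (uni r))⁻¹ = v := fun v hv => by
    obtain ⟨s, rfl⟩ := hUmem.mp hv
    rw [← map_inv, ← map_mul, ← map_mul, ← uni_add, add_comm, uni_add, mul_inv_cancel_right]
  have hwU : ∀ v ∈ U, w * v * w⁻¹ ∈ U := fun v hv => by
    rw [hw, show ι (uni r) * z * v * (ι (uni r) * z)⁻¹ =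
      ι (uni r) * (z * v * z⁻¹) * (ι (uni r))⁻¹ by group, huU _ (hzU v hv)]
    exact hzU v hv
  have hws : w * ι (uni 1) * w⁻¹ = ι (uni 1) := by
    rw [hw, show ι (uni r) * z * ι (uni 1) * (ι (uni r) * z)⁻¹ =
      ι (uni r) * (z * ι (uni 1) * z⁻¹) * (ι (uni r))⁻¹ by group, hzs]
    exact huU _ (hUmem.mpr ⟨1, rfl⟩)
  have hwT : w ∉ T := fun h => hzT ((T.mul_mem_cancel_left (hιmem _)).mp h)
  have hwb : w * ι (tor b0) * w⁻¹ = ι (tor b1) := by
    rw [hw, show ι (uni r) * z * ι (tor b0) * (ι (uni r) * z)⁻¹ =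
      ι (uni r) * (z * ι (tor b0) * z⁻¹) * (ι (uni r))⁻¹ by group, ← hg, ← map_inv, ← map_mul,
      ← map_mul, hr, mul_inv_cancel_right]
  have hwD : ∀ a : Fˣ, ∃ a' : Fˣ, ι (tor a') = w * ι (tor a) * w⁻¹ := fun a => by
    obtain ⟨g', hg'⟩ := hιsurj _ (‹T.Normal›.conj_mem _ (hιmem (tor a)) w)
    obtain ⟨a', rfl⟩ := commute_tor_of_mul_tor hb1 (z := g') (hιinj (by
      rw [map_mul, map_mul, hg', ← hwb]
      rw [show w * ι (tor a) * w⁻¹ * (w * ι (tor b0) * w⁻¹) = w * (ι (tor a) * ι (tor b0)) * w⁻¹ by group,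
        show w * ι (tor b0) * w⁻¹ * (w * ι (tor a) * w⁻¹) = w * (ι (tor b0) * ι (tor a)) * w⁻¹ by group,
        ← map_mul, ← map_mul, ← tor_mul, ← tor_mul, mul_comm a b0]))
    exact ⟨a', hg'⟩
  obtain ⟨n, hn⟩ := IsPGroup.iff_orderOf.mp (hC (ι (uni 1)) (by rw [hιord, hu2 1 one_ne_zero]))
    ⟨w, Subgroup.mem_centralizer_singleton_iff.mpr (mul_inv_eq_iff_eq_mul.mp hws)⟩
  rw [Subgroup.orderOf_mk] at hn
  have hw2 : w ^ 2 ^ n = 1 := by rw [← hn, pow_orderOf_eq_one]
  -- the powers of `w` keep these properties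
  have hpow : ∀ i : ℕ, w ^ i * ι (uni 1) * (w ^ i)⁻¹ = ι (uni 1) ∧
      ∀ a : Fˣ, ∃ a' : Fˣ, ι (tor a') = w ^ i * ι (tor a) * (w ^ i)⁻¹ := by
    intro i
    induction i with
    | zero => exact ⟨by simp, fun a => ⟨a, by simp⟩⟩
    | succ i ih =>
      have e : ∀ v, w ^ (i + 1) * v * (w ^ (i + 1))⁻¹ = w * (w ^ i * v * (w ^ i)⁻¹) * w⁻¹ :=
        fun v => by rw [pow_succ']; group
      refine ⟨by rw [e, ih.1, hws], fun a => ?_⟩
      obtain ⟨a', ha'⟩ := ih.2 a
      obtain ⟨a'', ha''⟩ := hwD a'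
      exact ⟨a'', by rw [e, ← ha', ha'']⟩
  -- the last power acting nontrivially on the torus
  classical
  have hex : ∃ j, ∀ a : Fˣ, Commute (w ^ 2 ^ j) (ι (tor a)) := ⟨n, fun a => hw2 ▸ Commute.one_left _⟩
  have hw1 : w ≠ 1 := fun h => hwT (h ▸ T.one_mem)
  have hj0 : Nat.find hex ≠ 0 := by
    intro h
    have hcen : Commute w (ι (tor b0)) := by
      have := Nat.find_spec hex b0
      rwa [h, pow_zero, pow_one] at this
    have h1 := eq_one_of_commute_two_elem hC hw2 hw1 hcen (by rw [hιord]; exact odd_orderOf_tor h2 b0)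
    have hb01 : b0 = 1 := tor_injective (hιinj (h1.trans ((map_one ι).symm.trans (congrArg ι tor_one.symm))))
    exact hb0 (by rw [hb01]; simp)
  obtain ⟨i, hi⟩ := Nat.exists_eq_succ_of_ne_zero hj0
  set v := w ^ 2 ^ i with hv
  have hvv : ∀ a : Fˣ, Commute (v * v) (ι (tor a)) := fun a => by
    have := Nat.find_spec hex a
    rw [hi, pow_succ] at this
    rw [hv, ← pow_add, ← mul_two]
    exact this
  obtain ⟨a1, ha1⟩ : ∃ a : Fˣ, ¬ Commute v (ι (tor a)) := by
    have := Nat.find_min hex (m := i) (by omega)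
    push Not at this
    exact this
  have hv1 : v ≠ 1 := fun h => ha1 (h ▸ Commute.one_left _)
  have hv2n : v ^ 2 ^ n = 1 := by rw [hv, ← pow_mul, mul_comm, pow_mul, hw2, one_pow]
  -- `v` inverts the torus
  have hinvert : ∀ a : Fˣ, v * ι (tor a) * v⁻¹ = ι (tor a⁻¹) := by
    intro a
    obtain ⟨a', ha'⟩ := (hpow (2 ^ i)).2 a
    obtain ⟨a'', ha''⟩ := (hpow (2 ^ i)).2 a'
    have ha2 : a'' = a := tor_injective (hιinj (by
      rw [ha'', ha', ← hv, show v * (v * ι (tor a) * v⁻¹) * v⁻¹ = v * v * ι (tor a) * (v * v)⁻¹ by group,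
        (hvv a).eq, mul_inv_cancel_right]))
    have hfix : Commute v (ι (tor (a * a'))) := by
      show v * ι (tor (a * a')) = ι (tor (a * a')) * v
      refine mul_inv_eq_iff_eq_mul.mp ?_
      rw [tor_mul, map_mul, show v * (ι (tor a) * ι (tor a')) * v⁻¹ =
        (v * ι (tor a) * v⁻¹) * (v * ι (tor a') * v⁻¹) by group, hv, ← ha', ← ha'', ha2,
        ← map_mul, ← map_mul, ← tor_mul, ← tor_mul, mul_comm]
    have h1 := eq_one_of_commute_two_elem hC hv2n hv1 hfix (by rw [hιord]; exact odd_orderOf_tor h2 _)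
    have h3 : a * a' = 1 := tor_injective (hιinj (h1.trans ((map_one ι).symm.trans (congrArg ι tor_one.symm))))
    rw [hv, ← ha', eq_inv_of_mul_eq_one_right h3]
  -- so inversion is additive on the field
  have hconj : ∀ a : F, v * ι (uni a) * v⁻¹ = ι (uni a⁻¹) := by
    intro a
    rcases eq_or_ne a 0 with h | h
    · rw [h, _root_.inv_zero, uni_zero, map_one, mul_one, mul_inv_cancel]
    obtain ⟨l, hl⟩ := exists_sq h2 a
    have hl0 : l ≠ 0 := fun h' => h (by rw [← hl, h', zero_mul])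
    set L := Units.mk0 l hl0 with hL
    have hua : uni a = tor L * uni 1 * (tor L)⁻¹ := by
      rw [tor_uni, mul_inv_cancel_right, Units.val_mk0, mul_one, hl]
    have hua' : uni a⁻¹ = tor L⁻¹ * uni 1 * (tor L⁻¹)⁻¹ := by
      rw [tor_uni, mul_inv_cancel_right, Units.val_inv_eq_inv_val, Units.val_mk0, mul_one,
        ← mul_inv, hl]
    rw [hua, hua', map_mul, map_mul, map_inv, map_mul, map_mul, map_inv, ← hinvert L]
    calc v * (ι (tor L) * ι (uni 1) * (ι (tor L))⁻¹) * v⁻¹
        = (v * ι (tor L) * v⁻¹) * (v * ι (uni 1) * v⁻¹) * (v * ι (tor L) * v⁻¹)⁻¹ := by group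
      _ = _ := by rw [hv, (hpow (2 ^ i)).1]
  have hadd : ∀ a b : F, (a + b)⁻¹ = a⁻¹ + b⁻¹ := fun a b => uni_injective (hιinj (by
    rw [← hconj, uni_add, map_mul, uni_add, map_mul, ← hconj, ← hconj]; group))
  -- hence the field has at most four elements
  have hroot : ∀ a : F, a ≠ 0 → a ≠ 1 → a * a + a + 1 = 0 := by
    intro a ha0 ha1
    have h' := hadd a 1
    have hne : a + 1 ≠ 0 := fun e => ha1 (by linear_combination e - h2)
    rw [inv_one] at h'
    have h3 : (1 : F) = (a⁻¹ + 1) * (a + 1) := by rw [← h', inv_mul_cancel₀ hne]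
    field_simp at h3
    linear_combination -h3
  have hsub : (Finset.univ : Finset F) ⊆ ({0, 1} : Finset F) ∪
      ((Polynomial.X ^ 2 + Polynomial.X + 1 : Polynomial F).roots.toFinset) := by
    intro a _
    by_cases ha0 : a = 0
    · simp [ha0]
    by_cases ha1 : a = 1
    · simp [ha1]
    refine Finset.mem_union_right _ (Multiset.mem_toFinset.mpr ((Polynomial.mem_roots ?_).mpr ?_))
    · intro h0
      have := congrArg (Polynomial.eval (0 : F)) h0
      simp at this
    · simp [Polynomial.IsRoot.def]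
      linear_combination hroot a ha0 ha1
  have hdeg : ((Polynomial.X ^ 2 + Polynomial.X + 1 : Polynomial F).roots.toFinset).card ≤ 2 :=
    (Multiset.toFinset_card_le _).trans ((Polynomial.card_roots' _).trans (by compute_degree))
  have h := ((Finset.card_le_card hsub).trans (Finset.card_union_le _ _)).trans
    (add_le_add Finset.card_le_two hdeg)
  rw [Finset.card_univ] at h
  omega

end CfsgLib.CITApp
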