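import Cfsg.Agent.Lib.CITApp.Reduction
import Cfsg.Agent.Lib.Frobenius.FixedDim
import Cfsg.Agent.Lib.FGStruct.HallPQ
import Cfsg.Agent.Lib.PNilpotent.DisconnectedSolvable
import Cfsg.Agent.Lib.Transfer.ThompsonFactor

/-!
# Solvable CIT groups have at most two prime graph components
-/

set_option autoImplicit false

namespace CfsgLib.CITApp

open CfsgLib.CIT

variable {G : Type*} [Group G] [Finite G]

/-- A nontrivial normal 2-group contains a nontrivial normal subgroup of exponent two. -/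
theorem exists_normal_exponent_two (W : Subgroup G) [W.Normal] (hW : IsPGroup 2 W) (hW1 : W ≠ ⊥) :
    ∃ V : Subgroup G, V.Normal ∧ V ≠ ⊥ ∧ IsMulCommutative V ∧ ∀ v ∈ V, v ^ 2 = 1 := by
  haveI : Fact (Nat.Prime 2) := ⟨Nat.prime_two⟩
  let V : Subgroup G :=
    { carrier := {z | z ∈ W ∧ (∀ w ∈ W, w * z = z * w) ∧ z * z = 1}
      one_mem' := ⟨W.one_mem, fun w _ => by simp, one_mul 1⟩
      mul_mem' := fun {a b} ha hb => ⟨W.mul_mem ha.1 hb.1,
        fun w hw => by rw [← mul_assoc, ha.2.1 w hw, mul_assoc, hb.2.1 w hw, ← mul_assoc], by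
        rw [mul_assoc, ← mul_assoc b a b, ha.2.1 b hb.1, mul_assoc a b b, hb.2.2, mul_one, ha.2.2]⟩
      inv_mem' := fun {a} ha => ⟨W.inv_mem ha.1, fun w hw => by
        have e : a⁻¹ = a := inv_eq_of_mul_eq_one_right ha.2.2
        rw [e]; exact ha.2.1 w hw, by rw [← mul_inv_rev, ha.2.2, inv_one]⟩ }
  refine ⟨V, ⟨fun a ha g => ⟨‹W.Normal›.conj_mem a ha.1 g, fun w hw => ?_, ?_⟩⟩, ?_,
    ⟨⟨fun a b => Subtype.ext (b.2.2.1 a a.2.1)⟩⟩, fun v hv => by rw [sq]; exact hv.2.2⟩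
  · have h := ha.2.1 (g⁻¹ * w * g) (by simpa using ‹W.Normal›.conj_mem w hw g⁻¹)
    calc w * (g * a * g⁻¹) = g * ((g⁻¹ * w * g) * a) * g⁻¹ := by group
      _ = g * (a * (g⁻¹ * w * g)) * g⁻¹ := by rw [h]
      _ = g * a * g⁻¹ * w := by group
  · rw [show g * a * g⁻¹ * (g * a * g⁻¹) = g * (a * a) * g⁻¹ by group, ha.2.2]; group
  · haveI : Nontrivial W := (Subgroup.nontrivial_iff_ne_bot W).mpr hW1
    haveI := hW.center_nontrivial
    obtain ⟨z, hz⟩ := exists_prime_orderOf_dvd_card' (G := ↥(Subgroup.center W)) 2 (by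
      obtain ⟨n, hn⟩ := IsPGroup.iff_card.1 (hW.to_subgroup (Subgroup.center W))
      have h1 : 1 < Nat.card ↥(Subgroup.center W) := Finite.one_lt_card
      rcases n with _ | n
      · rw [hn] at h1; simp at h1
      · rw [hn]; exact dvd_pow_self 2 (by omega))
    intro h
    have hzV : ((z : W) : G) ∈ V := ⟨(z : W).2, fun w hw =>
      congrArg Subtype.val (Subgroup.mem_center_iff.mp z.2 ⟨w, hw⟩),
      CfsgLib.Invol.mul_self_eq_one (by rw [Subgroup.orderOf_coe, Subgroup.orderOf_coe]; exact hz)⟩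
    rw [h, Subgroup.mem_bot] at hzV
    have h1 : z = 1 := Subtype.ext (Subtype.ext hzV)
    rw [h1, orderOf_one] at hz
    omega

/-- A Frobenius group of odd order cannot act on a 2-group of a CIT group. -/
theorem false_of_frobenius (hC : IsCIT G) (W : Subgroup G) [W.Normal] (hW : IsPGroup 2 W)
    (hW1 : W ≠ ⊥) (K R : Subgroup G) (hRK : R ≤ Subgroup.normalizer (K : Set G)) (hK : K ≠ ⊥)
    (hR : R ≠ ⊥) (hKR : K ⊓ R = ⊥) (hKodd : Odd (Nat.card K)) (hRodd : Odd (Nat.card R))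
    (hfpf : ∀ r ∈ R, r ≠ 1 → K ⊓ Subgroup.centralizer {r} = ⊥) : False := by
  haveI : Fact (Nat.Prime 2) := ⟨Nat.prime_two⟩
  obtain ⟨V, hVn, hV1, hVc, hV2⟩ := exists_normal_exponent_two W hW hW1
  have hnorm : ∀ H : Subgroup G, H ≤ Subgroup.normalizer (V : Set G) := fun H =>
    Subgroup.le_normalizer_of_normal
  have htriv : ∀ H : Subgroup G, H ≠ ⊥ → Odd (Nat.card H) →
      Nat.card ↥(V ⊓ Subgroup.centralizer (H : Set G)) = 1 := by
    intro H hH hHodd
    rw [Subgroup.card_eq_one, eq_bot_iff]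
    rintro v ⟨hv, hvc⟩
    rw [Subgroup.mem_bot]
    by_contra hv1
    obtain ⟨⟨h, hh⟩, hh1⟩ := Subgroup.ne_bot_iff_exists_ne_one.mp hH
    exact hh1 (Subtype.ext (eq_one_of_commute_invol hC (orderOf_eq_prime (hV2 v hv) hv1)
      (Subgroup.mem_centralizer_iff.mp hvc h hh).symm (odd_orderOf_of_mem hHodd hh)))
  have hℓ : ¬ 2 ∣ Nat.card ↥(K ⊔ R) := by
    rw [CfsgLib.Solvable.card_sup_of_disjoint hRK (disjoint_iff.mpr hKR)]
    exact Nat.two_dvd_ne_zero.mpr (Nat.odd_iff.mp (hKodd.mul hRodd))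
  have hKR1 : (K ⊔ R : Subgroup G) ≠ ⊥ := fun h => hK (le_bot_iff.mp (h ▸ le_sup_left))
  have key := CfsgLib.Frobenius.frobenius_fixed_card (ℓ := 2) hVc hV2 (hnorm K) (hnorm R) hRK hK hR
    hKR hfpf hℓ
  rw [htriv _ hKR1 (Nat.odd_iff.mpr (Nat.two_dvd_ne_zero.mp hℓ)), htriv R hR hRodd,
    htriv K hK hKodd, one_pow, one_mul, one_mul] at key
  exact hV1 (Subgroup.card_eq_one.mp key)

theorem isPGroup_piCore (u : ℕ) [Fact u.Prime] (H : Type*) [Group H] [Finite H] :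
    IsPGroup u (Cfsg.piCore {u} H) :=
  CfsgLib.OddOrder.isPiSubgroup_singleton.mp (CfsgLib.OddOrder.piCore_isPiSubgroup {u} H)

/-- A solvable CIT group of even order has no two nonadjacent odd primes. -/
theorem false_of_solvable (hC : IsCIT G) (hs : Group.IsSolvable G) (heven : Even (Nat.card G))
    {p q : ℕ} (hp : p.Prime) (hq : q.Prime) (hp2 : p ≠ 2) (hq2 : q ≠ 2) (hpq : p ≠ q)
    (hpG : p ∣ Nat.card G) (hqG : q ∣ Nat.card G) (hno : ∀ g : G, orderOf g ≠ p * q) : False := by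
  haveI := hs
  have hnc : ∀ a b : G, ∀ {u v : ℕ}, (u = p ∧ v = q ∨ u = q ∧ v = p) → orderOf a = u → orderOf b = v →
      ¬ Commute a b := by
    intro a b u v huv ha hb hc
    have hcop : (orderOf a).Coprime (orderOf b) := by
      rcases huv with ⟨rfl, rfl⟩ | ⟨rfl, rfl⟩ <;> rw [ha, hb]
      · exact (Nat.coprime_primes hp hq).mpr hpq
      · exact (Nat.coprime_primes hq hp).mpr hpq.symm
    refine hno (a * b) ?_
    rw [hc.orderOf_mul_eq_mul_orderOf_of_coprime hcop, ha, hb]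
    rcases huv with ⟨rfl, rfl⟩ | ⟨rfl, rfl⟩
    · rfl
    · exact mul_comm _ _
  haveI : Fact (Nat.Prime 2) := ⟨Nat.prime_two⟩
  haveI := Fact.mk hp
  haveI := Fact.mk hq
  haveI hON : (Cfsg.pPrimeCore 2 G).Normal := CfsgLib.Solvable.pPrimeCore_normal 2 G
  have hOodd : Odd (Nat.card (Cfsg.pPrimeCore 2 G)) :=
    Nat.coprime_two_right.mp (CfsgLib.Solvable.pPrimeCore_card_coprime 2 G)
  by_cases hO : Cfsg.pPrimeCore 2 G = ⊥
  swap
  · obtain ⟨K, hKn, hKodd, hKq⟩ := exists_two_quotient hC heven _ hOodd hO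
    obtain ⟨j, hj⟩ := IsPGroup.iff_card.mp hKq
    have hdvd : ∀ {u : ℕ}, u.Prime → u ≠ 2 → u ∣ Nat.card G → u ∣ Nat.card K := by
      intro u hu hu2 hud
      rw [← K.card_mul_index, Subgroup.index_eq_card, hj] at hud
      exact (hu.dvd_mul.mp hud).resolve_right fun h =>
        hu2 ((Nat.prime_dvd_prime_iff_eq hu Nat.prime_two).mp (hu.dvd_of_dvd_pow h))
    obtain ⟨a, ha, hao⟩ := CfsgLib.CN.exists_prime_orderOf hp (hdvd hp hp2 hpG)
    obtain ⟨b, hb, hbo⟩ := CfsgLib.CN.exists_prime_orderOf hq (hdvd hq hq2 hqG)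
    obtain ⟨t, ht⟩ := exists_prime_orderOf_dvd_card' 2 (even_iff_two_dvd.mp heven)
    refine hnc a b (Or.inl ⟨rfl, rfl⟩) hao hbo ?_
    have hti : t⁻¹ = t := inv_eq_of_mul_eq_one_right (CfsgLib.Invol.mul_self_eq_one ht)
    have h1 : (a * b)⁻¹ = a⁻¹ * b⁻¹ := by
      rw [← inverts hC ht K hKodd (mul_mem ha hb), ← inverts hC ht K hKodd ha,
        ← inverts hC ht K hKodd hb]
      calc t * (a * b) * t = t * a * (t * t) * b * t := by
            rw [CfsgLib.Invol.mul_self_eq_one ht]; group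
        _ = t * a * t * (t * b * t) := by group
    show a * b = b * a
    rw [← inv_inj, h1, mul_inv_rev]
  -- a normal 2-subgroup on which a Hall `{p, q}`-subgroup acts without fixed points
  haveI : Nontrivial G := Finite.one_lt_card_iff_nontrivial.mp
    (hp.one_lt.trans_le (Nat.le_of_dvd Nat.card_pos hpG))
  have hW1 : Cfsg.pCore 2 G ≠ ⊥ := by
    intro h2
    obtain ⟨u, hu, -, hcore⟩ := CfsgLib.DisconnSolv.exists_piCore_ne_bot (G := G)
    by_cases hu2 : u = 2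
    · subst hu2
      exact hcore {2} rfl (le_bot_iff.mp (h2 ▸ CfsgLib.Solvable.le_pCore inferInstance
        (isPGroup_piCore 2 G)))
    · exact hcore {u} rfl (le_bot_iff.mp (hO ▸ CfsgLib.Solvable.le_pPrimeCore inferInstance
        (Nat.coprime_two_right.mpr (by
          haveI := Fact.mk hu
          obtain ⟨i, hi⟩ := IsPGroup.iff_card.mp (isPGroup_piCore u G)
          rw [hi]
          exact (hu.odd_of_ne_two hu2).pow))))
  haveI := CfsgLib.Solvable.pCore_normal 2 G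
  have hps : Cfsg.IsPSolvable p G := CfsgLib.ThompsonFactor.isPSolvable_of_isSolvable hs
  obtain ⟨P⟩ : Nonempty (Sylow p G) := inferInstance
  obtain ⟨H, -, hH⟩ := CfsgLib.FGStruct.HallPQ.exists_hall hpq _ G rfl hps P
  have hHodd : Odd (Nat.card H) := hH ▸ ((hp.odd_of_ne_two hp2).pow.mul (hq.odd_of_ne_two hq2).pow)
  have hpH : p ∣ Nat.card H := hH ▸ dvd_mul_of_dvd_left
    (dvd_pow_self p (hp.factorization_pos_of_dvd Nat.card_pos.ne' hpG).ne') _
  have hqH : q ∣ Nat.card H := hH ▸ dvd_mul_of_dvd_right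
    (dvd_pow_self q (hq.factorization_pos_of_dvd Nat.card_pos.ne' hqG).ne') _
  haveI : Nontrivial H := Finite.one_lt_card_iff_nontrivial.mp
    (hp.one_lt.trans_le (Nat.le_of_dvd Nat.card_pos hpH))
  obtain ⟨u, hu, huH, hcore⟩ := CfsgLib.DisconnSolv.exists_piCore_ne_bot (G := H)
  have hu' : u = p ∨ u = q := by
    rw [hH] at huH
    rcases hu.dvd_mul.mp huH with h | h
    · exact Or.inl ((Nat.prime_dvd_prime_iff_eq hu hp).mp (hu.dvd_of_dvd_pow h))
    · exact Or.inr ((Nat.prime_dvd_prime_iff_eq hu hq).mp (hu.dvd_of_dvd_pow h))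
  obtain ⟨v, hv, hvH, huv, hpair⟩ : ∃ v, v.Prime ∧ v ∣ Nat.card H ∧ u ≠ v ∧
      (u = p ∧ v = q ∨ u = q ∧ v = p) := by
    rcases hu' with rfl | rfl
    · exact ⟨q, hq, hqH, hpq, Or.inl ⟨rfl, rfl⟩⟩
    · exact ⟨p, hp, hpH, hpq.symm, Or.inr ⟨rfl, rfl⟩⟩
  haveI := Fact.mk hu
  haveI := Fact.mk hv
  set K := (Cfsg.piCore {u} H).map H.subtype with hK
  have hKle : K ≤ H := Subgroup.map_subtype_le _
  have hKp : IsPGroup u K := (isPGroup_piCore u H).map _
  have hKne : K ≠ ⊥ := fun h =>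
    hcore {u} rfl ((Subgroup.map_eq_bot_iff_of_injective _ H.subtype_injective).mp h)
  obtain ⟨c, hc, hco⟩ := CfsgLib.CN.exists_prime_orderOf hv hvH
  set R := Subgroup.zpowers c with hR
  have hRc : Nat.card R = v := by rw [hR, Nat.card_zpowers, hco]
  have hcop : (Nat.card K).Coprime (Nat.card R) := by
    obtain ⟨i, hi⟩ := IsPGroup.iff_card.mp hKp
    rw [hi, hRc]
    exact ((Nat.coprime_primes hu hv).mpr huv).pow_left i
  refine false_of_frobenius hC (Cfsg.pCore 2 G) (CfsgLib.Solvable.pCore_isPGroup 2 G) hW1 K R ?_ hKne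
    (fun h => hv.ne_one (by rw [← hRc, h, Subgroup.card_bot]))
    (Subgroup.disjoint_of_coprime_natCard hcop).eq_bot (hHodd.of_dvd_nat (Subgroup.card_dvd_of_le hKle))
    (hHodd.of_dvd_nat (Subgroup.card_dvd_of_le (Subgroup.zpowers_le.mpr hc))) fun r hr hr1 => ?_
  · haveI : (Cfsg.piCore {u} H).Normal := inferInstance
    exact (Subgroup.zpowers_le.mpr hc).trans ((Subgroup.normal_subgroupOf_iff_le_normalizer hKle).mp
      (by rw [hK, Subgroup.subgroupOf, Subgroup.comap_map_eq_self_of_injective H.subtype_injective]; infer_instance))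
  · rw [eq_bot_iff]
    rintro k ⟨hk, hkc⟩
    rw [Subgroup.mem_bot]
    by_contra hk1
    have hd : orderOf r ∣ v := hRc ▸ Subgroup.orderOf_dvd_natCard R hr
    have hro : orderOf r = v := (hv.eq_one_or_self_of_dvd _ hd).resolve_left
      (mt orderOf_eq_one_iff.mp hr1)
    obtain ⟨i, hi⟩ := hKp ⟨k, hk⟩
    have hui : u ∣ orderOf k := by
      obtain ⟨j, -, hj⟩ := (Nat.dvd_prime_pow hu).mp
        (orderOf_dvd_of_pow_eq_one (congrArg Subtype.val hi : k ^ u ^ i = 1))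
      rw [hj]
      exact dvd_pow_self u fun h0 => hk1 (orderOf_eq_one_iff.mp (by rw [hj, h0, pow_zero]))
    exact hnc (k ^ (orderOf k / u)) r hpair (orderOf_pow_orderOf_div (orderOf_pos k).ne' hui) hro
      (Commute.pow_left (Subgroup.mem_centralizer_singleton_iff.mp hkc) _)

end CfsgLib.CITApp
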