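import Cfsg.Agent.Lib.CITApp.Socle
import Cfsg.Agent.Lib.CITApp.Solvable
import Cfsg.Agent.Lib.CITApp.SLTwoAut

/-!
# Recognition of `PSL(2, 2^m)` from its prime graph
-/

set_option autoImplicit false

namespace CfsgLib.CITApp

open Matrix CfsgLib.CIT

theorem not_dvd_of_large {r : ℕ} (hr : r.Prime) (h9 : 9 ≤ r) : ¬ r ∣ 2 ^ 6 * 3 ^ 2 * 5 * 7 := by
  intro h
  have key : ∀ p a : ℕ, p.Prime → r ∣ p ^ a → r = p := fun p a hp hd =>
    (Nat.prime_dvd_prime_iff_eq hr hp).mp (hr.dvd_of_dvd_pow hd)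
  rcases hr.dvd_mul.mp h with h | h
  · rcases hr.dvd_mul.mp h with h | h
    · rcases hr.dvd_mul.mp h with h | h
      · have := key 2 6 Nat.prime_two h; omega
      · have := key 3 2 Nat.prime_three h; omega
    · have := Nat.le_of_dvd (by norm_num) h; omega
  · have := Nat.le_of_dvd (by norm_num) h; omega

/-- The number theory: the odd primes of `PSL(2, p)`, `p` a Fermat or Mersenne prime, are not those
of `PSL(2, 2^m)`. -/
theorem false_of_fermat_mersenne {m p k : ℕ} (hm : 4 ≤ m) (hp : p.Prime)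
    (hk : p = 2 ^ k + 1 ∨ p + 1 = 2 ^ k)
    (hπ : ∀ r : ℕ, r.Prime → r ≠ 2 → (r ∣ p * (p ^ 2 - 1) ↔ r ∣ 2 ^ (2 * m) - 1)) : False := by
  obtain ⟨r, hr, hr2, hr9, hrd, hrmin⟩ := exists_primitive_two (n := 2 * m) (by omega) (by omega)
  have hT := (hπ r hr hr2).mpr hrd
  have hp2 : p ≠ 2 := by
    rintro rfl
    rw [show 2 * (2 ^ 2 - 1) = 2 * 3 by norm_num] at hT
    have := Nat.le_of_dvd (by norm_num) hT
    omega
  have hpd : p ∣ 2 ^ (2 * m) - 1 := (hπ p hp hp2).mp (dvd_mul_right _ _)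
  have hnot2 : ∀ s : ℕ, s.Prime → s ≠ 2 → ∀ j, ¬ s ∣ 2 ^ j := fun s hs hs2 j h =>
    hs2 ((Nat.prime_dvd_prime_iff_eq hs Nat.prime_two).mp (hs.dvd_of_dvd_pow h))
  rcases hk with hk | hk
  · -- Fermat
    rcases Nat.eq_zero_or_pos k with rfl | hk0
    · exact hp2 (by simpa using hk)
    have hp2k : p ∣ 2 ^ (2 * k) - 1 := ⟨2 ^ k - 1, by
      rw [hk, show 2 * k = k * 2 by ring, pow_mul]
      simpa using Nat.sq_sub_sq (2 ^ k) 1⟩
    have hcases : ∀ s : ℕ, s.Prime → s ≠ 2 → s ∣ p * (p ^ 2 - 1) →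
        s ∣ p ∨ s ∣ 2 ^ (2 * (k - 1)) - 1 := by
      intro s hs hs2 h
      rcases dvd_of_dvd_sq_sub_one hs h with h | h | h
      · exact Or.inl h
      · rw [hk, Nat.add_sub_cancel] at h; exact absurd h (hnot2 s hs hs2 k)
      · right
        have h' : s ∣ 2 * (2 ^ (k - 1) + 1) := by
          rw [mul_add, ← pow_succ', Nat.sub_add_cancel hk0]; rw [hk] at h; exact h
        have h'' := (hs.dvd_mul.mp h').resolve_left
          (fun h => hs2 ((Nat.prime_dvd_prime_iff_eq hs Nat.prime_two).mp h))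
        refine h''.trans ⟨2 ^ (k - 1) - 1, ?_⟩
        rw [mul_comm 2 (k - 1), pow_mul]
        simpa using Nat.sq_sub_sq (2 ^ (k - 1)) 1
    have hkm : k ∣ m := by
      have hg := dvd_gcd_two_pow hp2k hpd
      rw [Nat.gcd_mul_left] at hg
      set g := Nat.gcd k m with hgdef
      by_contra hne
      have hgk : g ∣ k := Nat.gcd_dvd_left _ _
      have hgpos : 0 < g := Nat.gcd_pos_of_pos_left _ hk0
      have hlt : g < k := lt_of_le_of_ne (Nat.le_of_dvd hk0 hgk)
        (fun e => hne (by have := Nat.gcd_dvd_right k m; rwa [← hgdef, e] at this))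
      have hle : 2 * g ≤ k := by
        obtain ⟨c, hc⟩ := hgk
        rcases c with _ | _ | c
        · simp at hc; omega
        · simp at hc; omega
        · nlinarith
      have h1 : 2 ^ (2 * g) ≤ 2 ^ k := Nat.pow_le_pow_right two_pos hle
      have h2 : 4 ≤ 2 ^ (2 * g) := by
        calc 4 = 2 ^ 2 := by norm_num
          _ ≤ _ := Nat.pow_le_pow_right two_pos (by omega)
      have := Nat.le_of_dvd (by omega) hg
      omega
    have hmk : m ∣ k ∨ m ∣ k - 1 := by
      rcases hcases r hr hr2 hT with h | h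
      · exact Or.inl (Nat.dvd_of_mul_dvd_mul_left two_pos (hrmin _ (h.trans hp2k)))
      · exact Or.inr (Nat.dvd_of_mul_dvd_mul_left two_pos (hrmin _ h))
    have hkeq : k = m := by
      rcases hmk with h | h
      · exact Nat.dvd_antisymm hkm h
      · rcases Nat.eq_zero_or_pos (k - 1) with h1 | h1
        · have hk1 : k = 1 := by omega
          subst hk1
          rw [hk] at hT
          have := Nat.le_of_dvd (by norm_num) hT
          have h24 : r ∣ 3 * 8 := by simpa using hT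
          rcases hr.dvd_mul.mp h24 with h | h
          · have := Nat.le_of_dvd (by norm_num) h; omega
          · have := Nat.le_of_dvd (by norm_num) h; omega
        · have := Nat.le_of_dvd h1 (hkm.trans h)
          omega
    subst hkeq
    have hm6 : k ≠ 6 := by
      rintro rfl
      rw [hk] at hp
      norm_num at hp
    obtain ⟨s, hs, hs2, -, hsd, hsmin⟩ := exists_primitive_two (n := k) (by omega) hm6
    have hsT := (hπ s hs hs2).mpr
      (hsd.trans (Nat.pow_sub_one_dvd_pow_sub_one 2 (dvd_mul_left k 2)))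
    rcases hcases s hs hs2 hsT with h | h
    · have h1 : s ∣ 2 := by
        have := Nat.dvd_sub h hsd
        rwa [hk, show 2 ^ k + 1 - (2 ^ k - 1) = 2 by have := Nat.one_le_two_pow (n := k); omega] at this
      exact hs2 ((Nat.prime_dvd_prime_iff_eq hs Nat.prime_two).mp h1)
    · have h1 := Nat.dvd_sub (dvd_mul_left k 2) (hsmin _ h)
      rw [show 2 * k - 2 * (k - 1) = 2 by omega] at h1
      have := Nat.le_of_dvd two_pos h1
      omega
  · -- Mersenne
    have hk2 : 2 ≤ k := by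
      by_contra h
      push Not at h
      interval_cases k <;> simp at hk
      · exact hp.ne_zero hk
      · exact hp.ne_one hk
    have hpk : p = 2 ^ k - 1 := by omega
    have hkm : k ∣ 2 * m := by
      have hg := dvd_gcd_two_pow (dvd_of_eq hpk) hpd
      by_contra hne
      set g := Nat.gcd k (2 * m) with hgdef
      have hgk : g ∣ k := Nat.gcd_dvd_left _ _
      have hgpos : 0 < g := Nat.gcd_pos_of_pos_left _ (by omega)
      have hlt : g < k := lt_of_le_of_ne (Nat.le_of_dvd (by omega) hgk)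
        (fun e => hne (by have := Nat.gcd_dvd_right k (2 * m); rwa [← hgdef, e] at this))
      have h1 : 2 ^ g < 2 ^ k := Nat.pow_lt_pow_right one_lt_two hlt
      have h2 : 2 ≤ 2 ^ g := by
        calc 2 = 2 ^ 1 := by norm_num
          _ ≤ _ := Nat.pow_le_pow_right two_pos hgpos
      have := Nat.le_of_dvd (by omega) hg
      omega
    rcases dvd_of_dvd_sq_sub_one hr hT with h | h | h
    · have h2m : 2 * m = k := Nat.dvd_antisymm (hrmin k (hpk ▸ h)) hkm
      have hprod : p = (2 ^ m + 1) * (2 ^ m - 1) := by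
        rw [hpk, ← h2m, mul_comm 2 m, pow_mul]
        simpa using Nat.sq_sub_sq (2 ^ m) 1
      have h16 : 16 ≤ 2 ^ m := by
        calc 16 = 2 ^ 4 := by norm_num
          _ ≤ _ := Nat.pow_le_pow_right two_pos hm
      refine Nat.not_prime_mul (a := 2 ^ m + 1) (b := 2 ^ m - 1) (by omega) (by omega) ?_
      rwa [← hprod]
    · have h' : r ∣ 2 * (2 ^ (k - 1) - 1) := by
        rw [Nat.mul_sub_one, ← pow_succ', Nat.sub_add_cancel (by omega : 1 ≤ k),
          show 2 ^ k - 2 = p - 1 by omega]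
        exact h
      have h'' := (hr.dvd_mul.mp h').resolve_left
        (fun h => hr2 ((Nat.prime_dvd_prime_iff_eq hr Nat.prime_two).mp h))
      have := Nat.le_of_dvd (by omega) (hkm.trans (hrmin _ h''))
      omega
    · rw [hk] at h
      exact hnot2 r hr hr2 k h

/-- A finite group with the prime graph of `PSL(2, 2^m)`, `m ≥ 4`, modulo its 2-core, given the
classification of simple CIT groups. -/
theorem psl_even_recognition {F : Type*} [Field F] [Fintype F] {m : ℕ} (hm : 4 ≤ m)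
    (hF : Fintype.card F = 2 ^ m) {G : Type*} [Group G] [Finite G]
    (hdiv : ∀ r : ℕ, r.Prime →
      (r ∣ Nat.card (ProjectiveSpecialLinearGroup (Fin 2) F) ↔ r ∣ Nat.card G))
    (hord : ∀ r s : ℕ, r.Prime → s.Prime → r ≠ s →
      ((∃ x : ProjectiveSpecialLinearGroup (Fin 2) F, orderOf x = r * s) ↔
        (∃ y : G, orderOf y = r * s)))
    (hK : Classified (G ⧸ Cfsg.pCore 2 G)) :
    Nonempty (G ⧸ Cfsg.pCore 2 G ≃* ProjectiveSpecialLinearGroup (Fin 2) F) := by
  have hm0 : m ≠ 0 := by omega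
  have hq16 : 16 ≤ 2 ^ m := by
    calc 16 = 2 ^ 4 := by norm_num
      _ ≤ _ := Nat.pow_le_pow_right two_pos hm
  have hodd : Odd (2 ^ m - 1) :=
    Nat.Even.sub_odd Nat.one_le_two_pow (Nat.even_pow.mpr ⟨even_two, hm0⟩) odd_one
  have hodd' : Odd (2 ^ m + 1) := (Nat.even_pow.mpr ⟨even_two, hm0⟩).add_one
  have hC : IsCIT G := by
    refine isCIT_of_no_commute fun t x r hr hr2 ht hx hc => ?_
    have ho : orderOf (t * x) = 2 * r := by
      rw [hc.orderOf_mul_eq_mul_orderOf_of_coprime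
        (by rw [ht, hx]; exact (Nat.coprime_primes Nat.prime_two hr).mpr (Ne.symm hr2)), ht, hx]
    obtain ⟨y, hy⟩ := (hord 2 r Nat.prime_two hr (Ne.symm hr2)).mpr ⟨_, ho⟩
    rcases orderOf_psl_two_even hm0 hF y with h | h | h <;> rw [hy] at h
    · exact hr2 ((Nat.prime_dvd_prime_iff_eq hr Nat.prime_two).mp ((dvd_mul_left r 2).trans h))
    · exact Nat.not_even_iff_odd.mpr hodd (even_iff_two_dvd.mpr ((dvd_mul_right 2 r).trans h))
    · exact Nat.not_even_iff_odd.mpr hodd' (even_iff_two_dvd.mpr ((dvd_mul_right 2 r).trans h))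
  have hcard := card_psl_two_even (F := F) hm0 hF
  have hns : ¬ Group.IsSolvable G := by
    intro hs
    obtain ⟨p, hp, hpd⟩ := Nat.exists_prime_and_dvd (show 2 ^ m - 1 ≠ 1 by omega)
    obtain ⟨q, hq, hqd⟩ := Nat.exists_prime_and_dvd (show 2 ^ m + 1 ≠ 1 by omega)
    have hp2 : p ≠ 2 := by
      rintro rfl; exact Nat.not_even_iff_odd.mpr hodd (even_iff_two_dvd.mpr hpd)
    have hq2 : q ≠ 2 := by
      rintro rfl; exact Nat.not_even_iff_odd.mpr hodd' (even_iff_two_dvd.mpr hqd)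
    have hsum : ∀ s : ℕ, s.Prime → s ∣ 2 ^ m - 1 → s ∣ 2 ^ m + 1 → s = 2 := fun s hs h1 h2 => by
      have := Nat.dvd_sub h2 h1
      rw [show 2 ^ m + 1 - (2 ^ m - 1) = 2 by omega] at this
      exact (Nat.prime_dvd_prime_iff_eq hs Nat.prime_two).mp this
    have hpq : p ≠ q := fun e => hp2 (hsum p hp hpd (e ▸ hqd))
    have hsq : 2 ^ (2 * m) - 1 = (2 ^ m + 1) * (2 ^ m - 1) := by
      rw [mul_comm 2 m, pow_mul]; simpa using Nat.sq_sub_sq (2 ^ m) 1
    refine false_of_solvable hC hs (even_iff_two_dvd.mpr ((hdiv 2 Nat.prime_two).mp ?_)) hp hq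
      hp2 hq2 hpq ((hdiv p hp).mp ?_) ((hdiv q hq).mp ?_) ?_
    · rw [hcard]; exact (dvd_pow_self 2 hm0).mul_right _
    · rw [hcard, hsq]; exact (hpd.mul_left _).mul_left _
    · rw [hcard, hsq]; exact (hqd.mul_right _).mul_left _
    · intro g hg
      obtain ⟨y, hy⟩ := (hord p q hp hq hpq).mpr ⟨g, hg⟩
      rcases orderOf_psl_two_even hm0 hF y with h | h | h <;> rw [hy] at h
      · exact hp2 ((Nat.prime_dvd_prime_iff_eq hp Nat.prime_two).mp ((dvd_mul_right p q).trans h))
      · exact hq2 (hsum q hq ((dvd_mul_left q p).trans h) hqd)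
      · exact hp2 (hsum p hp hpd ((dvd_mul_right p q).trans h))
  obtain ⟨T, hTn, hTs, hab, hcon, -, hCX, hπ⟩ := exists_socle_classified hC hns hK
  have hπ' : ∀ r : ℕ, r.Prime → r ≠ 2 → (r ∣ Nat.card T ↔ r ∣ 2 ^ (2 * m) - 1) := by
    intro r hr hr2
    rw [← hπ r hr hr2, ← hdiv r hr, hcard, Nat.Coprime.dvd_mul_left]
    exact Nat.Coprime.pow_right m ((Nat.coprime_primes hr Nat.prime_two).mpr hr2)
  obtain ⟨r, hr, hr2, hr9, hrd, hrmin⟩ := exists_primitive_two (n := 2 * m) (by omega) (by omega)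
  have hrT : r ∣ Nat.card T := (hπ' r hr hr2).mpr hrd
  rcases hcon with ⟨F', hF1, hF2, hq, ⟨e⟩⟩ | ⟨F', hF1, hF2, h4, ⟨e⟩⟩ | hS
  · have hcardT : ∀ s : ℕ, s.Prime → s ≠ 2 →
        (s ∣ Nat.card T ↔ s ∣ Fintype.card F' * (Fintype.card F' ^ 2 - 1)) := fun s hs hs2 => by
      rw [Nat.card_congr e.toEquiv, dvd_card_psl_two_iff hs hs2]
    rcases hq with h9 | ⟨n, hn⟩ | ⟨hp, k, hk⟩
    · have h := (hcardT r hr hr2).mp hrT
      rw [h9] at h
      exact absurd (h.trans (by norm_num)) (not_dvd_of_large hr (by omega))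
    · have hn0 : n ≠ 0 := by
        rintro rfl
        have := Fintype.one_lt_card (α := F')
        rw [hn, pow_zero] at this
        exact lt_irrefl _ this
      have hTn' : ∀ s : ℕ, s.Prime → s ≠ 2 → (s ∣ Nat.card T ↔ s ∣ 2 ^ (2 * n) - 1) := fun s hs hs2 => by
        rw [hcardT s hs hs2, hn, ← pow_mul, mul_comm n 2, Nat.Coprime.dvd_mul_left]
        exact Nat.Coprime.pow_right n ((Nat.coprime_primes hs Nat.prime_two).mpr hs2)
      have hmn : m ≤ n := Nat.le_of_dvd (by omega)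
        (Nat.dvd_of_mul_dvd_mul_left two_pos (hrmin _ ((hTn' r hr hr2).mp hrT)))
      obtain ⟨s, hs, hs2, -, hsd, hsmin⟩ := exists_primitive_two (n := 2 * n) (by omega) (by omega)
      have hnm : n = m := le_antisymm (Nat.le_of_dvd (by omega)
        (Nat.dvd_of_mul_dvd_mul_left two_pos (hsmin _ ((hπ' s hs hs2).mp ((hTn' s hs hs2).mpr hsd))))) hmn
      subst hnm
      have h20 := two_eq_zero_of_card hn0 hn
      have hT : T = ⊤ := eq_top_of_sl_two hCX T ((slEquivPSL h20).trans e.symm) h20 (by omega)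
      subst hT
      exact ⟨(Subgroup.topEquiv.symm.trans e).trans
        (CfsgLib.Linear.pslRingEquiv (FiniteField.ringEquivOfCardEq (hn.trans hF.symm)))⟩
    · exfalso
      refine false_of_fermat_mersenne hm hp hk fun s hs hs2 => ?_
      rw [← hcardT s hs hs2, hπ' s hs hs2]
  · rw [Nat.card_congr e.toEquiv, CfsgLib.CIT.Natural.card_psl34 h4] at hrT
    exact absurd (hrT.trans (by norm_num)) (not_dvd_of_large hr (by omega))
  · exfalso
    refine (not_three_dvd_of_isSuzuki hS).1 ((hπ' 3 Nat.prime_three (by norm_num)).mpr ?_)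
    rw [pow_mul]
    exact Nat.sub_one_dvd_pow_sub_one (2 ^ 2) m

end CfsgLib.CITApp
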