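import Cfsg.Agent.Lib.CITApp.Socle
import Cfsg.Agent.Lib.CITApp.Solvable
import Cfsg.Agent.Lib.SL2Trace.Orders
import Cfsg.Agent.Lib.BlockPrincipal.RealOddOrbit
import Cfsg.Agent.S1475

/-!
# Recognition of `PSL(2, 7)` from its element orders
-/

set_option autoImplicit false

namespace CfsgLib.CITApp

open Matrix CfsgLib.CIT

/-- Every nontrivial element has order a power of two or a prime other than five. -/
def Spec (G : Type*) [Group G] : Prop :=
  ∀ g : G, g ≠ 1 → (∃ k : ℕ, orderOf g = 2 ^ k) ∨ ((orderOf g).Prime ∧ orderOf g ≠ 5)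

theorem Spec.of_surjective {G H : Type*} [Group G] [Group H] (h : Spec G) (f : G →* H)
    (hf : Function.Surjective f) : Spec H := by
  intro x hx
  obtain ⟨g, rfl⟩ := hf x
  have hd := orderOf_map_dvd f g
  rcases h g (fun e => hx (by rw [e, map_one])) with ⟨k, hk⟩ | ⟨hp, h5⟩
  · rw [hk] at hd
    obtain ⟨i, -, hi⟩ := (Nat.dvd_prime_pow Nat.prime_two).mp hd
    exact Or.inl ⟨i, hi⟩
  · rcases hp.eq_one_or_self_of_dvd _ hd with he | he
    · exact absurd (orderOf_eq_one_iff.mp he) hx
    · exact Or.inr ⟨he ▸ hp, he ▸ h5⟩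

theorem Spec.not_orderOf_mul {G : Type*} [Group G] (h : Spec G) {p q : ℕ} (hp : p.Prime)
    (hq : q.Prime) (hp2 : p ≠ 2) (g : G) : orderOf g ≠ p * q := by
  intro hg
  have h1 : g ≠ 1 := fun e => by
    rw [e, orderOf_one] at hg
    exact hp.ne_one (mul_eq_one.mp hg.symm).1
  rcases h g h1 with ⟨k, hk⟩ | ⟨hpr, -⟩
  · exact hp2 ((Nat.prime_dvd_prime_iff_eq hp Nat.prime_two).mp
      (hp.dvd_of_dvd_pow (hk ▸ hg ▸ dvd_mul_right p q)))
  · rw [hg] at hpr
    exact Nat.not_prime_mul hp.ne_one hq.ne_one hpr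

theorem Spec.not_commute {G : Type*} [Group G] (h : Spec G) {p q : ℕ} (hp : p.Prime)
    (hq : q.Prime) (hp2 : p ≠ 2) (hpq : p ≠ q) {x y : G} (hx : orderOf x = p) (hy : orderOf y = q) :
    ¬ Commute x y := fun hc => by
  refine h.not_orderOf_mul hp hq hp2 (x * y) ?_
  rw [hc.orderOf_mul_eq_mul_orderOf_of_coprime
    (by rw [hx, hy]; exact (Nat.coprime_primes hp hq).mpr hpq), hx, hy]

/-- An odd element order is a prime different from five. -/
theorem Spec.odd_orderOf {G : Type*} [Group G] (h : Spec G) {g : G} {n : ℕ} (hg : orderOf g = n)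
    (hn : Odd n) (h1 : n ≠ 1) : n.Prime ∧ n ≠ 5 := by
  subst hg
  rcases h g (fun e => h1 (by rw [e, orderOf_one])) with ⟨k, hk⟩ | h
  · exfalso
    rcases Nat.eq_zero_or_pos k with rfl | hk0
    · exact h1 (by rw [hk, pow_zero])
    · exact Nat.not_even_iff_odd.mpr hn (hk ▸ Nat.even_pow.mpr ⟨even_two, hk0.ne'⟩)
  · exact h

theorem three_dvd_card_normalizer {H : Type*} [Group H] [Finite H] (hH : Nat.card H = 168)
    [Fact (Nat.Prime 7)] (P : Sylow 7 H) :
    3 ∣ Nat.card (Subgroup.normalizer ((P : Subgroup H) : Set H)) := by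
  have hn : Nat.card (Sylow 7 H) =
      (Subgroup.normalizer ((P : Subgroup H) : Set H)).index := P.card_eq_index_normalizer
  have hm : Nat.card (Sylow 7 H) ≡ 1 [MOD 7] := card_sylow_modEq_one 7 H
  have h := (Subgroup.normalizer ((P : Subgroup H) : Set H)).card_mul_index
  rw [← hn, hH] at h
  have hd : Nat.card (Sylow 7 H) ∈ Nat.divisors 168 :=
    Nat.mem_divisors.mpr ⟨⟨_, by rw [mul_comm] at h; exact h.symm⟩, by norm_num⟩
  have key : ∀ d ∈ Nat.divisors 168, d % 7 = 1 → 3 ∣ 168 / d := by decide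
  have h3 := key _ hd hm
  rwa [← h, Nat.mul_div_cancel _ Nat.card_pos] at h3

theorem false_of_six {X : Type*} [Group X] [Finite X] (hX : Spec X) (P : Subgroup X)
    (hP : Nat.card P = 7) (h2 : 2 ∣ Nat.card (Subgroup.normalizer (P : Set X)))
    (h3 : 3 ∣ Nat.card (Subgroup.normalizer (P : Set X))) : False := by
  haveI : Fact (Nat.Prime 7) := ⟨by norm_num⟩
  obtain ⟨⟨π, hπ⟩, hπo⟩ := exists_prime_orderOf_dvd_card' (G := P) 7 (by rw [hP])
  rw [Subgroup.orderOf_mk] at hπo
  set φ := P.normalizerMonoidHom with hφ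
  have hrange : ∀ ℓ : ℕ, ℓ.Prime → ℓ ≠ 7 → ℓ ∣ Nat.card (Subgroup.normalizer (P : Set X)) →
      ℓ ∣ Nat.card φ.range := by
    intro ℓ hℓ hℓ7 hd
    haveI := Fact.mk hℓ
    rw [← φ.ker.card_mul_index, Subgroup.index_ker] at hd
    refine (hℓ.dvd_mul.mp hd).resolve_left fun hk => ?_
    obtain ⟨⟨⟨n, hnN⟩, hnk⟩, hno⟩ := exists_prime_orderOf_dvd_card' ℓ hk
    rw [Subgroup.orderOf_mk, Subgroup.orderOf_mk] at hno
    rw [hφ, Subgroup.normalizerMonoidHom_ker, Subgroup.mem_subgroupOf,
      Subgroup.mem_centralizer_iff] at hnk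
    exact hX.not_commute (by norm_num) hℓ (by norm_num) (Ne.symm hℓ7) hπo hno (hnk π hπ)
  haveI : IsCyclic P := isCyclic_of_prime_card hP
  haveI : IsCyclic (ZMod (Nat.card P))ˣ := by rw [hP]; infer_instance
  haveI : IsCyclic φ.range :=
    isCyclic_of_injective ((IsCyclic.mulAutMulEquiv P).toMonoidHom.comp φ.range.subtype)
      ((IsCyclic.mulAutMulEquiv P).injective.comp Subtype.val_injective)
  obtain ⟨g, hg⟩ := IsCyclic.exists_ofOrder_eq_natCard (α := φ.range)
  have h6 : 6 ∣ orderOf g := by
    rw [hg]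
    exact Nat.Coprime.mul_dvd_of_dvd_of_dvd (by norm_num)
      (hrange 2 Nat.prime_two (by norm_num) h2) (hrange 3 Nat.prime_three (by norm_num) h3)
  obtain ⟨⟨n, hn⟩, hng⟩ : ∃ n, φ.rangeRestrict n = g := φ.rangeRestrict_surjective g
  have hd : 6 ∣ orderOf n := by
    have := h6.trans (hng ▸ orderOf_map_dvd φ.rangeRestrict ⟨n, hn⟩)
    rwa [Subgroup.orderOf_mk] at this
  rcases hX n (fun e => by rw [e, orderOf_one] at hd; omega) with ⟨k, hk⟩ | ⟨hp, -⟩
  · rw [hk] at hd
    have := Nat.prime_three.dvd_of_dvd_pow (Nat.dvd_trans (by norm_num) hd)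
    omega
  · rcases hp.eq_one_or_self_of_dvd 2 (Nat.dvd_trans (by norm_num) hd) with h | h
    · omega
    · rw [← h] at hd; omega

theorem prime_mod_three {x : ℕ} (hx : x.Prime) (h : x % 3 = 0) : x = 3 :=
  ((Nat.prime_dvd_prime_iff_eq Nat.prime_three hx).mp (Nat.dvd_of_mod_eq_zero h)).symm

theorem two_pow_even_mod_three (j : ℕ) : 2 ^ (2 * j) % 3 = 1 := by
  rw [pow_mul, Nat.pow_mod]; simp

theorem exists_orders {F : Type*} [Field F] [Fintype F] (h4 : 4 ≤ Fintype.card F) :
    (∃ g : ProjectiveSpecialLinearGroup (Fin 2) F,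
      orderOf g = (Fintype.card F - 1) / Nat.gcd 2 (Fintype.card F - 1)) ∧
    (∃ g : ProjectiveSpecialLinearGroup (Fin 2) F,
      orderOf g = (Fintype.card F + 1) / Nat.gcd 2 (Fintype.card F - 1)) := by
  obtain ⟨τ, hτ, hu⟩ := CfsgLib.SL2Trace.exists_isotropic_trace (F := F) h4
  obtain ⟨σ, hσ⟩ := CfsgLib.SL2Trace.exists_anisotropic_trace (F := F)
  have hσ4 : σ ^ 2 ≠ 4 := fun h => hσ (CfsgLib.SL2Trace.exists_root_of_sq_eq_four σ h)
  exact ⟨CfsgLib.SL2Trace.exists_orderOf_toPSL τ hτ _
      ((CfsgLib.SL2Trace.card_centralizer_comp τ hτ).1 hu) rfl,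
    CfsgLib.SL2Trace.exists_orderOf_toPSL σ hσ4 _
      ((CfsgLib.SL2Trace.card_centralizer_comp σ hσ4).2 hσ) (by omega)⟩

/-- A finite group whose nontrivial elements have order a power of two or a prime other than five, with
at least three primes in its order, given the classification of simple CIT groups. -/
theorem psl_seven_recognition {G : Type*} [Group G] [Finite G] {F : Type*} [Field F] [Fintype F]
    (hF : Fintype.card F = 7) (h3 : 3 ≤ (Nat.card G).primeFactors.card) (hord : Spec G)
    (hK : Classified (G ⧸ Cfsg.pCore 2 G)) :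
    Nonempty (G ≃* ProjectiveSpecialLinearGroup (Fin 2) F) := by
  haveI : Fact (Nat.Prime 2) := ⟨Nat.prime_two⟩
  haveI h7 : Fact (Nat.Prime 7) := ⟨by norm_num⟩
  have hC : IsCIT G := isCIT_of_no_commute fun t x r hr hr2 ht hx hc =>
    hord.not_commute hr Nat.prime_two hr2 hr2 hx ht hc.symm
  have h5 : ¬ 5 ∣ Nat.card G := fun h => by
    haveI : Fact (Nat.Prime 5) := ⟨Nat.prime_five⟩
    obtain ⟨g, hg⟩ := exists_prime_orderOf_dvd_card' 5 h
    exact (hord.odd_orderOf hg (by decide) (by norm_num)).2 rfl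
  have hns : ¬ Group.IsSolvable G := fun hs => by
    haveI := hs
    have h2 := Cfsg.Agent.S1475.result (G := G) fun g => by
      rcases eq_or_ne g 1 with h | h
      · exact Or.inr h
      rcases hord g h with ⟨k, hk⟩ | ⟨hp, -⟩
      · rcases Nat.eq_zero_or_pos k with rfl | hk0
        · exact Or.inr (orderOf_eq_one_iff.mp (by rw [hk, pow_zero]))
        · exact Or.inl (hk ▸ (Nat.prime_two.isPrimePow).pow hk0.ne')
      · exact Or.inl hp.isPrimePow
    omega
  obtain ⟨T, hTn, hTs, hab, hcon, hpq, hCX, hπ⟩ := exists_socle_classified hC hns hK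
  haveI := hTn
  set W := Cfsg.pCore 2 G with hWdef
  have hW : IsPGroup 2 W := CfsgLib.Solvable.pCore_isPGroup 2 G
  have hSX : Spec (G ⧸ W) := hord.of_surjective (QuotientGroup.mk' W) (QuotientGroup.mk'_surjective W)
  have hST : Spec T := fun g hg => by
    have := hSX (g : G ⧸ W) (fun e => hg (Subtype.ext e))
    rwa [Subgroup.orderOf_coe] at this
  have hT5 : ¬ 5 ∣ Nat.card T := fun h => h5 ((hπ 5 Nat.prime_five (by norm_num)).mpr h)
  obtain ⟨a, b, ha, hb, ha2, hb2, hne, haT, hbT⟩ : ∃ a b : ℕ, a.Prime ∧ b.Prime ∧ a ≠ 2 ∧ b ≠ 2 ∧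
      a ≠ b ∧ a ∣ Nat.card T ∧ b ∣ Nat.card T := by
    have h1 : 1 < ((Nat.card G).primeFactors.erase 2).card := by
      have := Finset.pred_card_le_card_erase (s := (Nat.card G).primeFactors) (a := 2)
      omega
    obtain ⟨a, ha, b, hb, hne⟩ := Finset.one_lt_card.mp h1
    simp only [Finset.mem_erase, Nat.mem_primeFactors] at ha hb
    exact ⟨a, b, ha.2.1, hb.2.1, ha.1, hb.1, hne, (hπ a ha.2.1 ha.1).mp ha.2.2.1,
      (hπ b hb.2.1 hb.1).mp hb.2.2.1⟩
  -- identify the socle
  obtain ⟨F', iF, iF', h7', ⟨e⟩⟩ : ∃ (F' : Type) (_ : Field F') (_ : Fintype F'),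
      Fintype.card F' = 7 ∧ Nonempty (T ≃* ProjectiveSpecialLinearGroup (Fin 2) F') := by
    rcases hcon with ⟨F', hF1, hF2, hq, ⟨e⟩⟩ | ⟨F', hF1, hF2, h4, ⟨e⟩⟩ | hS
    · have hdvd : ∀ s : ℕ, s.Prime → s ≠ 2 → s ∣ Nat.card T →
          s ∣ Fintype.card F' * (Fintype.card F' ^ 2 - 1) := fun s hs hs2 h => by
        rwa [Nat.card_congr e.toEquiv, dvd_card_psl_two_iff hs hs2] at h
      have hsmall : ∀ c : ℕ, (∀ s : ℕ, s.Prime → s ∣ c → s = 2 ∨ s = 3) →
          Fintype.card F' * (Fintype.card F' ^ 2 - 1) ≠ c := fun c hc he => by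
        have h1 := (hc a ha (he ▸ hdvd a ha ha2 haT)).resolve_left ha2
        have h2 := (hc b hb (he ▸ hdvd b hb hb2 hbT)).resolve_left hb2
        exact hne (h1.trans h2.symm)
      have h5' : ¬ 5 ∣ Fintype.card F' * (Fintype.card F' ^ 2 - 1) := fun h =>
        hT5 (by rw [Nat.card_congr e.toEquiv, dvd_card_psl_two_iff Nat.prime_five (by norm_num)]; exact h)
      have hsmall23 : ∀ c : ℕ, c ∈ ({6, 24} : Finset ℕ) → ∀ s : ℕ, s.Prime → s ∣ c → s = 2 ∨ s = 3 := by
        intro c hc s hs hd
        have hle := Nat.le_of_dvd (by simp at hc; omega) hd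
        simp at hc
        rcases hc with rfl | rfl <;> interval_cases s <;> first | omega | (revert hd; norm_num; done) | (revert hs; norm_num; done)
      have hord' : ∀ n : ℕ, (∃ g : ProjectiveSpecialLinearGroup (Fin 2) F', orderOf g = n) →
          Odd n → n ≠ 1 → n.Prime := fun n ⟨g, hg⟩ hn h1 =>
        (hST.odd_orderOf (g := e.symm g) (by rw [e.symm.orderOf_eq, hg]) hn h1).1
      rcases hq with h9 | ⟨n, hn⟩ | ⟨hp, k, hk⟩
      · exact absurd (by rw [h9]; norm_num) h5'
      · exfalso
        rcases (show n = 0 ∨ n = 1 ∨ n = 2 ∨ 3 ≤ n by omega) with rfl | rfl | rfl | hn3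
        · have := Fintype.one_lt_card (α := F'); simp [hn] at this
        · exact hsmall 6 (hsmall23 6 (by simp)) (by rw [hn]; norm_num)
        · exact h5' (by rw [hn]; norm_num)
        have h8 : 8 ≤ 2 ^ n := by
          calc 8 = 2 ^ 3 := by norm_num
            _ ≤ _ := Nat.pow_le_pow_right two_pos hn3
        obtain ⟨hg1, hg2⟩ := exists_orders (F := F') (by omega)
        rw [hn, gcd_two_sub_one (by omega), Nat.div_one] at hg1 hg2
        have hev : Even (2 ^ n) := Nat.even_pow.mpr ⟨even_two, by omega⟩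
        rcases Nat.even_or_odd n with ⟨j, hj⟩ | ⟨j, hj⟩
        · have h := hord' _ hg1 (Nat.Even.sub_odd Nat.one_le_two_pow hev odd_one) (by omega)
          have hm : 2 ^ n % 3 = 1 := by rw [show n = 2 * j by omega]; exact two_pow_even_mod_three j
          have := prime_mod_three h (by omega)
          omega
        · have h := hord' _ hg2 hev.add_one (by omega)
          have hm : 2 ^ n % 3 = 2 := by
            rw [hj, pow_succ, Nat.mul_mod, two_pow_even_mod_three j]
          have := prime_mod_three h (by omega)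
          omega
      · set p := Fintype.card F' with hpdef
        rcases (show k = 0 ∨ k = 1 ∨ k = 2 ∨ k = 3 ∨ 4 ≤ k by omega) with rfl | rfl | rfl | rfl | hk4
        · rcases hk with hk | hk
          · exact absurd (by rw [hk]; norm_num) (hsmall 6 (hsmall23 6 (by simp)))
          · simp at hk; exact absurd hk hp.ne_zero
        · rcases hk with hk | hk
          · exact absurd (by rw [hk]; norm_num) (hsmall 24 (hsmall23 24 (by simp)))
          · simp at hk; exact absurd hk hp.ne_one
        · rcases hk with hk | hk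
          · exact absurd (by rw [hk]; norm_num) h5'
          · have hp3 : p = 3 := by omega
            exact absurd (by rw [hp3]; norm_num) (hsmall 24 (hsmall23 24 (by simp)))
        · rcases hk with hk | hk
          · rw [hk] at hp; norm_num at hp
          · exact ⟨F', hF1, hF2, by omega, ⟨e⟩⟩
        exfalso
        have h16 : 16 ≤ 2 ^ k := by
          calc 16 = 2 ^ 4 := by norm_num
            _ ≤ _ := Nat.pow_le_pow_right two_pos hk4
        obtain ⟨j, rfl⟩ : ∃ j, k = j + 1 := ⟨k - 1, by omega⟩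
        rw [pow_succ] at hk h16
        have hev : Even (2 ^ j) := Nat.even_pow.mpr ⟨even_two, by omega⟩
        have hp4 : 4 ≤ p := by omega
        have hg2' : Nat.gcd 2 (p - 1) = 2 := by
          refine Nat.gcd_eq_left ?_
          rcases hp.eq_two_or_odd with h | h <;> omega
        obtain ⟨hg1, hg2⟩ := exists_orders (F := F') hp4
        rw [← hpdef, hg2'] at hg1 hg2
        rcases Nat.even_or_odd j with ⟨i, hi⟩ | ⟨i, hi⟩
        · have hm : 2 ^ j % 3 = 1 := by rw [show j = 2 * i by omega]; exact two_pow_even_mod_three i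
          rcases hk with hk | hk
          · have := prime_mod_three hp (by omega)
            omega
          · have h := hord' _ hg1 (by
              rw [show (p - 1) / 2 = 2 ^ j - 1 by omega]
              exact Nat.Even.sub_odd Nat.one_le_two_pow hev odd_one) (by omega)
            have := prime_mod_three h (by omega)
            omega
        · have hm : 2 ^ j % 3 = 2 := by
            rw [hi, pow_succ, Nat.mul_mod, two_pow_even_mod_three i]
          rcases hk with hk | hk
          · have h := hord' _ hg2 (by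
              rw [show (p + 1) / 2 = 2 ^ j + 1 by omega]
              exact hev.add_one) (by omega)
            have := prime_mod_three h (by omega)
            omega
          · have := prime_mod_three hp (by omega)
            omega
    · exfalso
      refine hT5 ?_
      rw [Nat.card_congr e.toEquiv, CfsgLib.CIT.Natural.card_psl34 h4]
      norm_num
    · exact absurd (not_three_dvd_of_isSuzuki hS).2 hT5
  have hT168 : Nat.card T = 168 := by
    have h := card_psl_two_mul (F := F')
    rw [h7', ← Nat.card_congr e.toEquiv] at h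
    norm_num at h
    omega
  -- nothing outside the socle
  have hTtop : T = ⊤ := by
    by_contra hT
    obtain ⟨P⟩ : Nonempty (Sylow 7 T) := inferInstance
    have hP7 : Nat.card ((P : Subgroup T).map T.subtype) = 7 := by
      rw [Subgroup.card_map_of_injective T.subtype_injective, P.card_eq_multiplicity, hT168]
      rw [show (168 : ℕ) = 7 * 24 by norm_num, Nat.factorization_mul (by norm_num) (by norm_num),
        Finsupp.add_apply, Nat.Prime.factorization_self h7.out,
        Nat.factorization_eq_zero_of_not_dvd (by norm_num), add_zero, pow_one]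
    refine false_of_six hSX ((P : Subgroup T).map T.subtype) hP7 ?_ ?_
    · have hsup := Sylow.normalizer_sup_eq_top P
      have hcard : Nat.card ((G ⧸ W) ⧸ T) ∣
          Nat.card (Subgroup.normalizer (((P : Subgroup T).map T.subtype : Subgroup (G ⧸ W)) : Set (G ⧸ W))) := by
        have hm : (Subgroup.normalizer (((P : Subgroup T).map T.subtype : Subgroup (G ⧸ W)) : Set (G ⧸ W))).map
            (QuotientGroup.mk' T) = ⊤ := by
          have h := congrArg (Subgroup.map (QuotientGroup.mk' T)) hsup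
          rw [Subgroup.map_sup, Subgroup.map_top_of_surjective _ (QuotientGroup.mk'_surjective T)] at h
          have hb : T.map (QuotientGroup.mk' T) = ⊥ := by
            rw [Subgroup.map_eq_bot_iff, QuotientGroup.ker_mk']
          rwa [hb, sup_bot_eq] at h
        have h := Subgroup.card_map_dvd
          (Subgroup.normalizer (((P : Subgroup T).map T.subtype : Subgroup (G ⧸ W)) : Set (G ⧸ W)))
          (QuotientGroup.mk' T)
        rwa [hm, Subgroup.card_top] at h
      refine dvd_trans ?_ hcard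
      obtain ⟨i, hi⟩ := IsPGroup.iff_card.mp hpq
      rcases Nat.eq_zero_or_pos i with rfl | hi0
      · exfalso
        refine hT (Subgroup.index_eq_one.mp ?_)
        rw [Subgroup.index_eq_card, hi, pow_zero]
      · rw [hi]; exact dvd_pow_self 2 hi0.ne'
    · have h := three_dvd_card_normalizer hT168 P
      refine h.trans ?_
      rw [← Subgroup.card_map_of_injective T.subtype_injective
        (K := Subgroup.normalizer ((P : Subgroup T) : Set T))]
      exact Subgroup.card_dvd_of_le (Subgroup.le_normalizer_map _)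
  subst hTtop
  have hX168 : Nat.card (G ⧸ W) = 168 := by rw [← hT168, Subgroup.card_top]
  -- the 2-core is trivial
  have hWbot : W = ⊥ := by
    by_contra hW1
    obtain ⟨K⟩ : Nonempty (Sylow 7 G) := inferInstance
    obtain ⟨i, hi⟩ := IsPGroup.iff_card.mp hW
    have hG : Nat.card G = 7 * (24 * 2 ^ i) := by
      rw [Subgroup.card_eq_card_quotient_mul_card_subgroup W, hX168, hi]; ring
    have hK7 : Nat.card (K : Subgroup G) = 7 := by
      rw [K.card_eq_multiplicity, hG, Nat.factorization_mul (by norm_num) (by positivity),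
        Finsupp.add_apply, Nat.Prime.factorization_self h7.out,
        Nat.factorization_eq_zero_of_not_dvd (n := 24 * 2 ^ i), add_zero, pow_one]
      intro h
      rcases h7.out.dvd_mul.mp h with h | h
      · norm_num at h
      · have := h7.out.dvd_of_dvd_pow h; norm_num at this
    have hN3 : 3 ∣ Nat.card (Subgroup.normalizer ((K : Subgroup G) : Set G)) := by
      refine dvd_trans ?_ (Subgroup.card_map_dvd _ (QuotientGroup.mk' W))
      rw [CfsgLib.RealOdd2.map_normalizer_sylow _ (QuotientGroup.mk'_surjective W) K]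
      exact three_dvd_card_normalizer hX168 (K.mapSurjective (QuotientGroup.mk'_surjective W))
    haveI : Fact (Nat.Prime 3) := ⟨Nat.prime_three⟩
    obtain ⟨⟨c, hcN⟩, hc⟩ := exists_prime_orderOf_dvd_card' 3 hN3
    rw [Subgroup.orderOf_mk] at hc
    have hR3 : Nat.card (Subgroup.zpowers c) = 3 := by rw [Nat.card_zpowers, hc]
    refine false_of_frobenius hC W hW hW1 (K : Subgroup G) (Subgroup.zpowers c)
      (Subgroup.zpowers_le.mpr hcN) ?_ ?_ ?_ (by rw [hK7]; decide) (by rw [hR3]; decide) ?_
    · intro h; rw [h, Subgroup.card_bot] at hK7; omega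
    · intro h; rw [h, Subgroup.card_bot] at hR3; omega
    · exact Subgroup.inf_eq_bot_of_coprime (by rw [hK7, hR3]; norm_num)
    · intro r hr hr1
      rw [eq_bot_iff]
      rintro x ⟨hxK, hxc⟩
      rw [Subgroup.mem_bot]
      by_contra hx1
      have hxo : orderOf x = 7 := by
        have h := orderOf_dvd_natCard (⟨x, hxK⟩ : (K : Subgroup G))
        rw [Subgroup.orderOf_mk, hK7] at h
        exact (h7.out.eq_one_or_self_of_dvd _ h).resolve_left (fun h => hx1 (orderOf_eq_one_iff.mp h))
      have hro : orderOf r = 3 := by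
        have h := orderOf_dvd_natCard (⟨r, hr⟩ : Subgroup.zpowers c)
        rw [Subgroup.orderOf_mk, hR3] at h
        exact (Nat.prime_three.eq_one_or_self_of_dvd _ h).resolve_left
          (fun h => hr1 (orderOf_eq_one_iff.mp h))
      exact hord.not_commute h7.out Nat.prime_three (by norm_num) (by norm_num) hxo hro
        (Subgroup.mem_centralizer_singleton_iff.mp hxc)
  exact ⟨((QuotientGroup.quotientBot.symm.trans
    (QuotientGroup.quotientMulEquivOfEq hWbot.symm)).trans (Subgroup.topEquiv.symm.trans e)).trans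
      (CfsgLib.Linear.pslRingEquiv (FiniteField.ringEquivOfCardEq (h7'.trans hF.symm)))⟩

end CfsgLib.CITApp
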