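import Cfsg.Agent.Lib.CITApp.OneClassTI
import Cfsg.Agent.Lib.CITApp.Facts
import Cfsg.Agent.Lib.CIT.Embedded
import Cfsg.Agent.Lib.CIT.Natural.Coord
import Cfsg.Agent.Lib.Solvable.Core

/-!
# The socle of a non-solvable CIT group, given the classification of simple CIT groups
-/

set_option autoImplicit false

namespace CfsgLib.CITApp

open Matrix CfsgLib.CIT

/-- Simple CIT subgroups of `X` are on the list. -/
def Classified (X : Type*) [Group X] : Prop :=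
  ∀ (T : Subgroup X), IsSimpleGroup T → (∃ a b : T, a * b ≠ b * a) → IsCIT T → Conclusion T

theorem not_three_dvd_of_isSuzuki {G : Type*} [Group G] (h : Cfsg.IsSuzuki G) :
    ¬ 3 ∣ Nat.card G ∧ 5 ∣ Nat.card G := by
  obtain ⟨-, m, -, hc⟩ := h
  rw [hc]
  set Q := 2 ^ (2 * m + 1) with hQ
  have h3 : Q % 3 = 2 := by rw [hQ, pow_succ, pow_mul, Nat.mul_mod, Nat.pow_mod]; simp
  have hQ1 : 1 ≤ Q := Nat.one_le_two_pow
  have h5 : Q ^ 2 % 5 = 4 := by
    rw [hQ, ← pow_mul, show (2 * m + 1) * 2 = 4 * m + 2 by ring, pow_add, pow_mul, Nat.mul_mod,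
      Nat.pow_mod]
    simp
  refine ⟨fun hd => ?_, Dvd.dvd.mul_right (Dvd.dvd.mul_left
    (Nat.dvd_of_mod_eq_zero (by omega)) _) _⟩
  have hp : Nat.Prime 3 := Nat.prime_three
  rcases hp.dvd_mul.mp hd with hd | hd
  · rcases hp.dvd_mul.mp hd with hd | hd
    · have := hp.dvd_of_dvd_pow hd; omega
    · have h9 : (Q ^ 2 + 1) % 3 = 2 := by rw [Nat.add_mod, Nat.pow_mod, h3]
      omega
  · omega

theorem oneClass_of_conclusion {T : Type*} [Group T] [Finite T] (hs : IsSimpleGroup T)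
    (hab : ∃ a b : T, a * b ≠ b * a) (hC : IsCIT T) (h : Conclusion T) : OneClass T := by
  rcases h with ⟨F, hF, hF', -, ⟨e⟩⟩ | ⟨F, hF, hF', h4, ⟨e⟩⟩ | hS
  · exact oneClass_psl_two.of_equiv e
  · exact (oneClass_psl_three (two_eq_zero_of_card (m := 2) two_ne_zero h4)).of_equiv e
  · exact oneClass_of_not_three_dvd hab hC (not_three_dvd_of_isSuzuki hS).1

theorem isPGroup_quotient_of_oneClass {G : Type*} [Group G] [Finite G] (hC : IsCIT G)
    (T : Subgroup G) [T.Normal] (h2 : 2 ∣ Nat.card T) (h : OneClass T) : IsPGroup 2 (G ⧸ T) := by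
  haveI : Fact (Nat.Prime 2) := ⟨Nat.prime_two⟩
  obtain ⟨s, hs⟩ := exists_prime_orderOf_dvd_card' 2 h2
  refine isPGroup_quotient hC T (s := (s : G)) (by rw [Subgroup.orderOf_coe, hs]) s.2 ?_
  intro u hu ho
  obtain ⟨c, hc⟩ := isConj_iff.mp (h ⟨u, hu⟩ s (by rw [Subgroup.orderOf_mk, ho]) hs)
  exact ⟨c, c.2, congrArg Subtype.val hc⟩

/-- A non-solvable CIT group: the quotient by the 2-core has a simple socle on the list, with the same
odd primes. -/
theorem exists_socle_classified {G : Type*} [Group G] [Finite G] (hC : IsCIT G)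
    (hns : ¬ Group.IsSolvable G) (hK : Classified (G ⧸ Cfsg.pCore 2 G)) :
    ∃ T : Subgroup (G ⧸ Cfsg.pCore 2 G), ∃ _ : T.Normal, IsSimpleGroup T ∧
      (∃ a b : T, a * b ≠ b * a) ∧ Conclusion T ∧ IsPGroup 2 ((G ⧸ Cfsg.pCore 2 G) ⧸ T) ∧
      IsCIT (G ⧸ Cfsg.pCore 2 G) ∧
      ∀ r : ℕ, r.Prime → r ≠ 2 → (r ∣ Nat.card G ↔ r ∣ Nat.card T) := by
  haveI : Fact (Nat.Prime 2) := ⟨Nat.prime_two⟩
  have hW : IsPGroup 2 (Cfsg.pCore 2 G) := CfsgLib.Solvable.pCore_isPGroup 2 G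
  have hCX := isCIT_quotient hC _ hW
  have hnsX := not_isSolvable_quotient hns _ hW
  obtain ⟨T, hTn, hTs, hab⟩ := exists_socle hCX hnsX (CfsgLib.Solvable.pCore_quotient_eq_bot _ rfl)
  haveI := hTs
  have hCT : IsCIT T := hCX.subgroup T
  have hcon := hK T hTs hab hCT
  have hpq := isPGroup_quotient_of_oneClass hCX T (two_dvd_card hab)
    (oneClass_of_conclusion hTs hab hCT hcon)
  exact ⟨T, hTn, hTs, hab, hcon, hpq, hCX, fun r hr hr2 => dvd_card_iff _ hW T hpq hr hr2⟩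

end CfsgLib.CITApp
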